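import Groth.Agent.FlatStratLib.Reduce
import Groth.Agent.GenBCLib.Descent
import Groth.Agent.FinLocFreeLib.PushFP
import Groth.Agent.S4599

/-!
# Reduction to a Noetherian base
-/

set_option autoImplicit false
set_option backward.isDefEq.respectTransparency false
set_option linter.style.haveILetI false
set_option linter.unusedSectionVars false

universe u

open CategoryTheory CategoryTheory.Limits AlgebraicGeometry Opposite
open Groth.Agent Groth.Agent.PullbackMod

noncomputable section

namespace Groth.Agent.FlatStrat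

theorem isMultiplicative_lfp : MorphismProperty.IsMultiplicative (@LocallyOfFinitePresentation.{u}) where
  id_mem _ := inferInstance

theorem lfp_of_comp {X Y Z : Scheme.{u}} (i : X ⟶ Y) (p : Y ⟶ Z) [LocallyOfFinitePresentation (i ≫ p)]
    [LocallyOfFiniteType p] : LocallyOfFinitePresentation i := by
  haveI := isMultiplicative_lfp.{u}
  haveI : MorphismProperty.HasOfPostcompProperty (@LocallyOfFinitePresentation.{u}) (@LocallyOfFiniteType.{u}) :=
    MorphismProperty.hasOfPostcompProperty_iff_le_diagonal.mpr fun _ _ f (_ : LocallyOfFiniteType f) =>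
      S4599.result f
  exact MorphismProperty.of_postcomp @LocallyOfFinitePresentation (W' := @LocallyOfFiniteType) i p ‹_› ‹_›

theorem lfp_terminal (R : CommRingCat.{u}) [Algebra.FiniteType ℤ R] :
    LocallyOfFinitePresentation (specULiftZIsTerminal.from (Spec R)) := by
  haveI : IsNoetherianRing (ULift.{u} ℤ) := isNoetherianRing_of_ringEquiv ℤ ULift.ringEquiv.symm
  haveI : IsNoetherian (Spec (CommRingCat.of (ULift.{u} ℤ))) := inferInstance
  haveI : LocallyOfFiniteType (specULiftZIsTerminal.from (Spec R)) := by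
    rw [specULiftZIsTerminal.hom_ext (specULiftZIsTerminal.from (Spec R))
      (Spec.map (CommRingCat.ofHom ((Int.castRingHom R).comp (ULift.ringEquiv : ULift.{u} ℤ ≃+* ℤ).toRingHom)))]
    rw [HasRingHomProperty.Spec_iff (P := @LocallyOfFiniteType)]
    simp only [CommRingCat.hom_ofHom]
    refine RingHom.FiniteType.comp ?_ (RingHom.FiniteType.of_surjective _ (ULift.ringEquiv : ULift.{u} ℤ ≃+* ℤ).surjective)
    rw [show Int.castRingHom R = algebraMap ℤ R from (RingHom.eq_intCast' _).symm]
    exact RingHom.finiteType_algebraMap.2 inferInstance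
  infer_instance

theorem eul_congr {X S : Scheme.{u}} (f : X ⟶ S) [IsProper f] {F F' L L' : X.Modules} (eF : F ≅ F') (eL : L ≅ L')
    (s : S) : HilbStratLib.eul f F L s = HilbStratLib.eul f F' L' s := by
  funext m
  letI : (f.fiber s).Over (Spec (CommRingCat.of (S.residueField s))) := ⟨f.fiberToSpecResidueField s⟩
  haveI : IsProper ((f.fiber s) ↘ Spec (CommRingCat.of (S.residueField s))) :=
    MorphismProperty.pullback_snd (P := @IsProper) _ _ ‹IsProper f›
  exact CurveLib.euler_iso (K := S.residueField s)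
    ((Scheme.Modules.pullback (f.fiberι s)).mapIso (AmpleLib.tIso eF (AmpleLib.powCongr eL m)))

/-- A finitely presented module on projective space over an affine base comes from a Noetherian one. -/
theorem exists_noetherian_module {n : ℕ} {A : CommRingCat.{u}} {G : (CohB1.ProjSpaceOver n (Spec A)).Modules}
    (hG : CohB1.IsFP G) :
    ∃ (S₀ : Scheme.{u}) (g : Spec A ⟶ S₀) (G₀ : (CohB1.ProjSpaceOver n S₀).Modules), IsNoetherian S₀ ∧
      LocallyOfFinitePresentation (specULiftZIsTerminal.from S₀) ∧ Coh.IsCoh G₀ ∧ Nonempty ((Scheme.Modules.pullback (FGA.projMap n g)).obj G₀ ≅ G) := by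
  haveI : CompactSpace (FPModelLib.zCone A).pt := inferInstanceAs (CompactSpace (Spec A))
  haveI : QuasiSeparatedSpace (FPModelLib.zCone A).pt := inferInstanceAs (QuasiSeparatedSpace (Spec A))
  let D := FPModelLib.zSys A
  let c := FPModelLib.zCone A
  have hc : IsLimit c := FPModelLib.isLimitZCone A
  obtain ⟨i⟩ : Nonempty (FPModelLib.ZIdx A)ᵒᵖ := IsCofiltered.nonempty
  let g₀ := CohB1.ProjSpaceOver.toBase n (D.obj i)
  let q := FGA.projMap n (c.π.app i)
  have hsq : IsPullback q (CohB1.ProjSpaceOver.toBase n (Spec A)) g₀ (c.π.app i) := isPullback_projMap _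
  haveI : IsProper g₀ := BCLib.isProper_toBase n _
  haveI := GenSeesawLib.lfp_toBase n (D.obj i)
  haveI : CompactSpace (CohB1.ProjSpaceOver n (D.obj i)) := QuasiCompact.compactSpace_of_compactSpace g₀
  obtain ⟨hX⟩ := FlatStage.nonempty_isLimit_vCone D c i g₀ hsq hc
  let o : Over i := Over.mk (𝟙 i)
  haveI : CompactSpace ((AffLim.baseChange D i g₀).obj o) :=
    QuasiCompact.compactSpace_of_compactSpace (pullback.fst g₀ (D.map o.hom))
  haveI : QuasiSeparatedSpace ((AffLim.baseChange D i g₀).obj o) :=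
    quasiSeparatedSpace_of_quasiSeparated (pullback.snd g₀ (D.map o.hom))
  haveI : ∀ (a b : Over i) (φ : a ⟶ b), IsAffineHom ((AffLim.baseChange D i g₀).map φ) := fun _ _ _ => inferInstance
  haveI : Coh.IsQCoh (show (FlatStage.vCone D c i g₀ hsq).pt.Modules from G) := FibreDepth.isQCoh_of_isFP G hG
  obtain ⟨k, -, F₁, hq₁, hfp₁, ⟨e₁⟩⟩ := LimHom.exists_stage_module (AffLim.baseChange D i g₀)
    (FlatStage.vCone D c i g₀ hsq) hX o G hG
  haveI := hq₁
  haveI := FPModelLib.finiteType_zSys A k.left
  haveI : IsNoetherianRing k.left.unop.1 := Algebra.FiniteType.isNoetherianRing ℤ _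
  haveI : IsNoetherian (D.obj k.left) :=
    inferInstanceAs (IsNoetherian (Spec (CommRingCat.of k.left.unop.1)))
  have hP : IsPullback (FGA.projMap n (D.map k.hom)) (CohB1.ProjSpaceOver.toBase n (D.obj k.left)) g₀ (D.map k.hom) :=
    isPullback_projMap _
  let e := hP.isoPullback
  haveI : IsProper (CohB1.ProjSpaceOver.toBase n (D.obj k.left)) := BCLib.isProper_toBase n _
  haveI : IsLocallyNoetherian (CohB1.ProjSpaceOver n (D.obj k.left)) :=
    LocallyOfFiniteType.isLocallyNoetherian (CohB1.ProjSpaceOver.toBase n (D.obj k.left))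
  haveI : Coh.IsQCoh ((Scheme.Modules.pullback e.hom).obj F₁) := isQCoh_pullback _ _
  refine ⟨D.obj k.left, c.π.app k.left, (Scheme.Modules.pullback e.hom).obj F₁, inferInstance,
    lfp_terminal (CommRingCat.of k.left.unop.1),
    ⟨inferInstance, ExactConstrLib.isFT_of_isFP (isFP_pullback e.hom F₁ hfp₁)⟩, ⟨?_⟩⟩
  have he : FGA.projMap n (c.π.app k.left) ≫ e.hom = FlatStage.vMap D c i g₀ hsq k := by
    apply pullback.hom_ext
    · rw [Category.assoc, hP.isoPullback_hom_fst, projMap_comp, c.w, FlatStage.vMap_fst]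
    · rw [Category.assoc, hP.isoPullback_hom_snd, FlatStage.vMap_snd]
      exact (isPullback_projMap _).w
  exact (Scheme.Modules.pullbackComp _ e.hom).app F₁ ≪≫ (Scheme.Modules.pullbackCongr he).app F₁ ≪≫ e₁

/-- The Euler characteristics come from a Noetherian base. -/
theorem eul_noetherian_module {n : ℕ} {S S₀ : Scheme.{u}} [IsNoetherian S₀] (g : S ⟶ S₀)
    {G : (CohB1.ProjSpaceOver n S).Modules} {G₀ : (CohB1.ProjSpaceOver n S₀).Modules} (hG₀ : Coh.IsCoh G₀)
    (e : (Scheme.Modules.pullback (FGA.projMap n g)).obj G₀ ≅ G) (s : S) :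
    HilbStratLib.eul (CohB1.ProjSpaceOver.toBase n S) G (Twist.twistOver n S 1) s =
      HilbStratLib.eul (CohB1.ProjSpaceOver.toBase n S₀) G₀ (Twist.twistOver n S₀ 1) (g s) := by
  haveI : IsProper (CohB1.ProjSpaceOver.toBase n S) := BCLib.isProper_toBase n _
  haveI : IsProper (CohB1.ProjSpaceOver.toBase n S₀) := BCLib.isProper_toBase n _
  haveI : IsLocallyNoetherian (CohB1.ProjSpaceOver n S₀) :=
    LocallyOfFiniteType.isLocallyNoetherian (CohB1.ProjSpaceOver.toBase n S₀)
  rw [← eul_congr _ e (pullTwist g 1)]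
  exact HilbStratLib.eul_baseChange (isPullback_projMap g) (QCohLib.isFP_of_isCoh G₀ hG₀)
    (GenSeesawLib.isInvertible_twistOver n S₀ 1) s

end Groth.Agent.FlatStrat
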