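import Groth.Agent.GenBCLib.Deg0
import Groth.Agent.GenBCLib.Main
import Groth.Agent.GenBCLib.Comp
import Groth.Agent.S11133
import Groth.Agent.AzumayaAlg.Fibre
import Groth.Agent.GrpdIrred.Main

/-!
# Composition and criteria for the degree zero base change map
-/

set_option autoImplicit false
set_option backward.isDefEq.respectTransparency false
set_option backward.defeqAttrib.useBackward true
set_option linter.style.haveILetI false
set_option linter.unusedSectionVars false

universe u

open CategoryTheory CategoryTheory.Limits AlgebraicGeometry TopologicalSpace Opposite TensorProduct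
open Groth.Agent.PullbackMod Groth.Agent.GenBCLib

noncomputable section

namespace Groth.Agent.FlatStrat

variable {X S X' S' X'' S'' : Scheme.{u}} {f : X ⟶ S} {f' : X' ⟶ S'} {f'' : X'' ⟶ S''} {g : S' ⟶ S} {g' : X' ⟶ X}
  {a : S'' ⟶ S'} {a' : X'' ⟶ X'}

theorem bc0_natural (w : g' ≫ f = f' ≫ g) {M N : X.Modules} (φ : M ⟶ N) :
    (Scheme.Modules.pullback g).map ((Scheme.Modules.pushforward f).map φ) ≫ CohBC.bc0 f g f' g' w N =
      CohBC.bc0 f g f' g' w M ≫ (Scheme.Modules.pushforward f').map ((Scheme.Modules.pullback g').map φ) := by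
  refine pullback_hom_ext g fun O m y hy => ⟨O, le_rfl, hy, ?_⟩
  have le := CohCmp.sqLE f g f' g' w O
  generalize ((Scheme.Modules.pushforward f).obj M).presheaf.map (homOfLE (le_refl O)).op m = s
  have hs : ((Scheme.Modules.pullback g).map ((Scheme.Modules.pushforward f).map φ)).app (g ⁻¹ᵁ O)
      (pullMap g ((Scheme.Modules.pushforward f).obj M) le_rfl s) =
      pullMap g ((Scheme.Modules.pushforward f).obj N) le_rfl (((Scheme.Modules.pushforward f).map φ).app O s) :=
    pullMap_natural g ((Scheme.Modules.pushforward f).map φ) le_rfl s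
  simp only [Scheme.Modules.Hom.comp_app, ConcreteCategory.comp_apply]
  refine ((congrArg ((CohBC.bc0 f g f' g' w N).app (g ⁻¹ᵁ O)) hs).trans
    (bc0_pullMap w N le_rfl le (show Γ(N, f ⁻¹ᵁ O) from φ.app (f ⁻¹ᵁ O) (show Γ(M, f ⁻¹ᵁ O) from s)))).trans ?_
  refine Eq.trans ?_ (congrArg (((Scheme.Modules.pushforward f').map ((Scheme.Modules.pullback g').map φ)).app (g ⁻¹ᵁ O))
    (bc0_pullMap w M le_rfl le s)).symm
  exact (pullMap_natural g' φ le (show Γ(M, f ⁻¹ᵁ O) from s)).symm

theorem bc0_comp (w₁ : g' ≫ f = f' ≫ g) (w₂ : a' ≫ f' = f'' ≫ a) (w : (a' ≫ g') ≫ f = f'' ≫ a ≫ g) (M : X.Modules) :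
    (Scheme.Modules.pullbackComp a g).hom.app ((Scheme.Modules.pushforward f).obj M) ≫
        CohBC.bc0 f (a ≫ g) f'' (a' ≫ g') w M =
      (Scheme.Modules.pullback a).map (CohBC.bc0 f g f' g' w₁ M) ≫
        CohBC.bc0 f' a f'' a' w₂ ((Scheme.Modules.pullback g').obj M) ≫
        (Scheme.Modules.pushforward f'').map ((Scheme.Modules.pullbackComp a' g').hom.app M) := by
  let P := (Scheme.Modules.pushforward f).obj M
  have key : CohBC.bc0 f (a ≫ g) f'' (a' ≫ g') w M = (Scheme.Modules.pullbackComp a g).inv.app P ≫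
      (Scheme.Modules.pullback a).map (CohBC.bc0 f g f' g' w₁ M) ≫
        CohBC.bc0 f' a f'' a' w₂ ((Scheme.Modules.pullback g').obj M) ≫
        (Scheme.Modules.pushforward f'').map ((Scheme.Modules.pullbackComp a' g').hom.app M) := by
    refine pullback_hom_ext (a ≫ g) fun O m y hy => ⟨O, le_rfl, hy, ?_⟩
    generalize ((Scheme.Modules.pushforward f).obj M).presheaf.map _ _ = s
    have h0 : ((Scheme.Modules.pullbackComp a g).inv.app P).app ((a ≫ g) ⁻¹ᵁ O) (pullMap (a ≫ g) P le_rfl s) =
        pullMap a _ (le_refl (a ⁻¹ᵁ (g ⁻¹ᵁ O))) (pullMap g P (le_refl (g ⁻¹ᵁ O)) s) := by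
      refine (congrArg (((Scheme.Modules.pullbackComp a g).inv.app P).app ((a ≫ g) ⁻¹ᵁ O))
        (pullMap_comp a g P (le_refl (g ⁻¹ᵁ O)) (le_refl (a ⁻¹ᵁ (g ⁻¹ᵁ O))) le_rfl s).symm).trans ?_
      exact congr($((Scheme.Modules.pullbackComp a g).hom_inv_id_app P).app _ _)
    have le₁ := CohCmp.sqLE f g f' g' w₁ O
    have le₂ := CohCmp.sqLE f' a f'' a' w₂ (g ⁻¹ᵁ O)
    have le := CohCmp.sqLE f (a ≫ g) f'' (a' ≫ g') w O
    simp only [Scheme.Modules.Hom.comp_app, ConcreteCategory.comp_apply]
    refine (bc0_pullMap w M le_rfl le s).trans ?_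
    refine Eq.symm ?_
    refine (congrArg _ ((congrArg _ ((congrArg (((Scheme.Modules.pullback a).map (CohBC.bc0 f g f' g' w₁ M)).app _) h0).trans
      ((pullMap_natural a (CohBC.bc0 f g f' g' w₁ M) (le_refl (a ⁻¹ᵁ (g ⁻¹ᵁ O))) (pullMap g P (le_refl (g ⁻¹ᵁ O)) s)).trans
        (congrArg (pullMap a ((Scheme.Modules.pushforward f').obj ((Scheme.Modules.pullback g').obj M)) le_rfl)
          (bc0_pullMap w₁ M le_rfl le₁ s))))).trans
      (bc0_pullMap w₂ ((Scheme.Modules.pullback g').obj M) le_rfl le₂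
        (show Γ((Scheme.Modules.pullback g').obj M, f' ⁻¹ᵁ (g ⁻¹ᵁ O)) from pullMap g' M le₁ s)))).trans ?_
    exact pullMap_comp a' g' M le₁ le₂ le (show Γ(M, f ⁻¹ᵁ O) from s)
  rw [key, ← Category.assoc]
  erw [Iso.hom_inv_id_app, Category.id_comp]

/-- Base change maps compose. -/
theorem isIso_bc0_comp (w₁ : g' ≫ f = f' ≫ g) (w₂ : a' ≫ f' = f'' ≫ a) (w : (a' ≫ g') ≫ f = f'' ≫ a ≫ g) (M : X.Modules)
    [IsIso (CohBC.bc0 f g f' g' w₁ M)] [IsIso (CohBC.bc0 f' a f'' a' w₂ ((Scheme.Modules.pullback g').obj M))] :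
    IsIso (CohBC.bc0 f (a ≫ g) f'' (a' ≫ g') w M) := by
  have h := bc0_comp w₁ w₂ w M
  haveI : IsIso ((Scheme.Modules.pullbackComp a g).hom.app ((Scheme.Modules.pushforward f).obj M) ≫
      CohBC.bc0 f (a ≫ g) f'' (a' ≫ g') w M) := by rw [h]; infer_instance
  exact IsIso.of_isIso_comp_left ((Scheme.Modules.pullbackComp a g).hom.app ((Scheme.Modules.pushforward f).obj M)) _

/-- The pullback of a base change map is an isomorphism if the two other ones are. -/
theorem isIso_map_bc0 (w₁ : g' ≫ f = f' ≫ g) (w₂ : a' ≫ f' = f'' ≫ a) (w : (a' ≫ g') ≫ f = f'' ≫ a ≫ g) (M : X.Modules)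
    [IsIso (CohBC.bc0 f (a ≫ g) f'' (a' ≫ g') w M)]
    [IsIso (CohBC.bc0 f' a f'' a' w₂ ((Scheme.Modules.pullback g').obj M))] :
    IsIso ((Scheme.Modules.pullback a).map (CohBC.bc0 f g f' g' w₁ M)) := by
  have h := bc0_comp w₁ w₂ w M
  haveI : IsIso ((Scheme.Modules.pullback a).map (CohBC.bc0 f g f' g' w₁ M) ≫
      (CohBC.bc0 f' a f'' a' w₂ ((Scheme.Modules.pullback g').obj M) ≫
        (Scheme.Modules.pushforward f'').map ((Scheme.Modules.pullbackComp a' g').hom.app M))) := by
    rw [← h]; infer_instance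
  exact IsIso.of_isIso_comp_right ((Scheme.Modules.pullback a).map (CohBC.bc0 f g f' g' w₁ M))
    (CohBC.bc0 f' a f'' a' w₂ ((Scheme.Modules.pullback g').obj M) ≫
      (Scheme.Modules.pushforward f'').map ((Scheme.Modules.pullbackComp a' g').hom.app M))

theorem isIso_bc0_congr {g₁ g₂ : S' ⟶ S} {g₁' g₂' : X' ⟶ X} (hg : g₁ = g₂) (hg' : g₁' = g₂')
    (w₁ : g₁' ≫ f = f' ≫ g₁) (w₂ : g₂' ≫ f = f' ≫ g₂) (M : X.Modules) (h : IsIso (CohBC.bc0 f g₁ f' g₁' w₁ M)) :
    IsIso (CohBC.bc0 f g₂ f' g₂' w₂ M) := by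
  subst hg hg'
  exact h

/-- Flat base change. -/
theorem isIso_bc0_flat (h : IsPullback g' f' f g) [QuasiCompact f] [QuasiSeparated f] [Flat g] (M : X.Modules)
    [Coh.IsQCoh M] : IsIso (CohBC.bc0 f g f' g' h.w M) := by
  have h1 := S11133.result f g g' f' h M
  have key : ((Scheme.Modules.pullbackPushforwardAdjunction g).homEquiv _ _).symm (CohBC.bc0Adj f g f' g' h.w M) =
      (Scheme.Modules.pullback g).map ((Scheme.Modules.pushforward f).map
        ((Scheme.Modules.pullbackPushforwardAdjunction g').unit.app M)) ≫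
      (Scheme.Modules.pullback g).map ((Scheme.Modules.pushforwardComp g' f ≪≫
          Scheme.Modules.pushforwardCongr h.w ≪≫ (Scheme.Modules.pushforwardComp f' g).symm).hom.app
        ((Scheme.Modules.pullback g').obj M)) ≫
      (Scheme.Modules.pullbackPushforwardAdjunction g).counit.app
        ((Scheme.Modules.pushforward f').obj ((Scheme.Modules.pullback g').obj M)) := by
    rw [Adjunction.homEquiv_counit, CohBC.bc0Adj]
    simp
  show IsIso (((Scheme.Modules.pullbackPushforwardAdjunction g).homEquiv _ _).symm _)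
  rw [key]
  exact h1

/-- A flat module without first cohomology on the fibres: the direct image commutes with base change. -/
theorem isIso_bc0_of_vanish (h : IsPullback g' f' f g) [IsProper f] [LocallyOfFinitePresentation f] {M : X.Modules}
    (hM : CohB1.IsFP M) (hfl : FlatMod.IsFlatOver f M)
    (hv : ∀ s : S, Subsingleton (CohIII.fiberH f M s 1)) : IsIso (CohBC.bc0 f g f' g' h.w M) := by
  haveI := FibreDepth.isQCoh_of_isFP M hM
  haveI : IsProper f' := MorphismProperty.of_isPullback (P := @IsProper) h inferInstance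
  haveI : Coh.IsQCoh ((Scheme.Modules.pullback g').obj M) := isQCoh_pullback _ M
  refine isIso_bc0 h M fun z => ?_
  obtain ⟨V, D, hV⟩ := exists_dat_at hM hfl (g z)
  obtain ⟨b, hb, -, hs, -⟩ := D.exists_vanish hV (hv (g z))
  exact ⟨V, D, b, hb, hs⟩

/-- The two residue fields of a point of an affine open. -/
def resEquivAt {T : Scheme.{u}} {V : T.Opens} (hV : IsAffineOpen V) {t : T} (ht : t ∈ V) (p : Ideal Γ(T, V))
    [p.IsPrime] (hp : (hV.primeIdealOf ⟨t, ht⟩).asIdeal = p) :
    letI := kAlg T ht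
    p.ResidueField ≃ₐ[Γ(T, V)] T.residueField t := by
  subst hp
  letI := kAlg T ht
  letI : Algebra Γ(T, V) (T.presheaf.stalk t) := (T.presheaf.germ V t ht).hom.toAlgebra
  haveI : IsLocalization.AtPrime (T.presheaf.stalk t) (hV.primeIdealOf ⟨t, ht⟩).asIdeal := hV.isLocalization_stalk ⟨t, ht⟩
  exact AlgEquiv.ofRingEquiv
    (f := IsLocalRing.ResidueField.mapEquiv
      (IsLocalization.algEquiv (hV.primeIdealOf ⟨t, ht⟩).asIdeal.primeCompl
        (Localization.AtPrime (hV.primeIdealOf ⟨t, ht⟩).asIdeal) (T.presheaf.stalk t)).toRingEquiv)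
    fun x => by
      refine (IsLocalRing.ResidueField.map_residue _ _).trans ?_
      exact congrArg (IsLocalRing.residue _) ((IsLocalization.algEquiv (hV.primeIdealOf ⟨t, ht⟩).asIdeal.primeCompl
        (Localization.AtPrime (hV.primeIdealOf ⟨t, ht⟩).asIdeal) (T.presheaf.stalk t)).commutes x)

/-- Bijectivity after base change only depends on the algebra up to isomorphism. -/
theorem bijective_baseChange_congr {A M N B B' : Type u} [CommRing A] [AddCommGroup M] [Module A M] [AddCommGroup N]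
    [Module A N] [CommRing B] [Algebra A B] [CommRing B'] [Algebra A B'] (l : M →ₗ[A] N) (e : B ≃ₐ[A] B')
    (h : Function.Bijective (l.baseChange B')) : Function.Bijective (l.baseChange B) := by
  let eM := TensorProduct.congr e.toLinearEquiv (LinearEquiv.refl A M)
  let eN := TensorProduct.congr e.toLinearEquiv (LinearEquiv.refl A N)
  have hc : ∀ z, eN (l.baseChange B z) = l.baseChange B' (eM z) := fun z => by
    induction z using TensorProduct.induction_on with
    | zero => simp only [map_zero]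
    | tmul b m => simp [eM, eN]
    | add u v hu hv => simp only [map_add, hu, hv]
  exact (eN.bijective.of_comp_iff' _).1 ((funext hc : eN ∘ l.baseChange B = _) ▸ h.comp eM.bijective)

/-- A map to a locally free module which is bijective on all fibres is an isomorphism. -/
theorem isIso_of_fibres {T : Scheme.{u}} {M N : T.Modules} [Coh.IsQCoh M] (hM : CohB1.IsFT M)
    (hN : FlatMod.IsFinLocFree N) (φ : M ⟶ N)
    (h : ∀ t : T, IsIso ((Scheme.Modules.pullback (T.fromSpecResidueField t)).map φ)) : IsIso φ := by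
  haveI : Coh.IsQCoh N := (isQCoh_and_isFP_of_isFinLocFree N hN).1
  refine S12131.isIso_of_bijective_small φ fun x => ⟨⊤, trivial, fun V hV _ => ?_⟩
  haveI : Module.Finite Γ(T, V) Γ(M, V) := QCohLib.finite_sections M hM hV
  obtain ⟨h1, h2⟩ := GenBCLib.finite_projective_sections N hV (U := V) (DCohLib.isFinLocFree_restrict V.ι hN) le_rfl
  refine AzumayaAlg.bijective_of_fibres (QCohLib.appLinear φ V) fun p _ => ?_
  let y : PrimeSpectrum Γ(T, V) := ⟨p, inferInstance⟩
  let t : T := hV.fromSpec y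
  have ht : t ∈ V := by
    have : t ∈ Set.range hV.fromSpec := ⟨y, rfl⟩
    rwa [hV.range_fromSpec] at this
  let k := T.fromSpecResidueField t
  have e : (⊤ : (Spec (T.residueField t)).Opens) ≤ k ⁻¹ᵁ V := le_preimage_fromSpecResidueField ht
  let B := Γ(Spec (T.residueField t), ⊤)
  letI : Algebra Γ(T, V) B := (k.appLE V ⊤ e).hom.toAlgebra
  have hB : ∀ P : T.Modules, Coh.IsQCoh P →
      letI := Module.compHom Γ((Scheme.Modules.pullback k).obj P, ⊤) (k.appLE V ⊤ e).hom
      haveI : IsScalarTower Γ(T, V) B Γ((Scheme.Modules.pullback k).obj P, ⊤) := .of_algebraMap_smul fun _ _ => rfl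
      IsBaseChange B (pullMapL k P e) :=
    fun P hP => haveI := hP; isBaseChange_pullMapL k P hV (isAffineOpen_top _) e
  haveI := h t
  have hb : Function.Bijective (((Scheme.Modules.pullback k).map φ).app ⊤) := bijective_app_of_isIso _ _
  have hφ : Function.Bijective ((QCohLib.appLinear φ V).baseChange B) := by
    letI := Module.compHom Γ((Scheme.Modules.pullback k).obj M, ⊤) (k.appLE V ⊤ e).hom
    haveI : IsScalarTower Γ(T, V) B Γ((Scheme.Modules.pullback k).obj M, ⊤) := .of_algebraMap_smul fun _ _ => rfl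
    letI := Module.compHom Γ((Scheme.Modules.pullback k).obj N, ⊤) (k.appLE V ⊤ e).hom
    haveI : IsScalarTower Γ(T, V) B Γ((Scheme.Modules.pullback k).obj N, ⊤) := .of_algebraMap_smul fun _ _ => rfl
    let eM := (hB M inferInstance).equiv
    let eN := (hB N inferInstance).equiv
    have hc : ∀ z, ((Scheme.Modules.pullback k).map φ).app ⊤ (eM z) = eN ((QCohLib.appLinear φ V).baseChange B z) := fun z => by
      induction z using TensorProduct.induction_on with
      | zero => simp only [map_zero]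
      | tmul b m =>
        rw [LinearMap.baseChange_tmul, IsBaseChange.equiv_tmul, IsBaseChange.equiv_tmul]
        refine (Scheme.Modules.Hom.app_smul _ b _).trans ?_
        exact congrArg (b • ·) (pullMap_natural k φ e m)
      | add u v hu hv => simp only [map_add, hu, hv]
    have h3 : (eN ∘ (QCohLib.appLinear φ V).baseChange B) = (((Scheme.Modules.pullback k).map φ).app ⊤ ∘ eM) :=
      funext fun z => (hc z).symm
    exact (eN.bijective.of_comp_iff' _).1 (h3 ▸ hb.comp eM.bijective)
  letI := kAlg T ht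
  have hy : (hV.primeIdealOf ⟨t, ht⟩).asIdeal = p :=
    congrArg PrimeSpectrum.asIdeal (hV.fromSpec.isOpenEmbedding.injective (hV.fromSpec_primeIdealOf ⟨t, ht⟩) : hV.primeIdealOf ⟨t, ht⟩ = y)
  let θ : T.residueField t ≃ₐ[Γ(T, V)] B :=
    AlgEquiv.ofRingEquiv (f := (Scheme.ΓSpecIso (T.residueField t)).symm.commRingCatIsoToRingEquiv)
      fun x => (congr($(appLE_fromSpecResidueField ht hV) x)).symm
  refine bijective_baseChange_congr (QCohLib.appLinear φ V) ((resEquivAt hV ht p hy).trans θ) hφ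

end Groth.Agent.FlatStrat
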