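import Groth.Agent.FlatStratLib.Reduce
import Groth.Agent.DCohLib.PerfLocFree

/-!
# Flatness over a reduced base from constancy of the Hilbert polynomial
-/

set_option autoImplicit false
set_option backward.isDefEq.respectTransparency false
set_option linter.style.haveILetI false
set_option linter.unusedSectionVars false

universe u

open CategoryTheory CategoryTheory.Limits AlgebraicGeometry
open Groth.Agent.PullbackMod

noncomputable section

namespace Groth.Agent.FlatStrat

variable {X S : Scheme.{u}} {n : ℕ}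

theorem fibreRank_pushM [IsNoetherian S] {G : (CohB1.ProjSpaceOver n S).Modules} (hG : Coh.IsCoh G) {m₀ : ℕ}
    (hu : Unif (CohB1.ProjSpaceOver.toBase n S) (Twist.twistOver n S 1) G m₀) {m : ℕ} (hm : m₀ ≤ m) (y : S) :
    fibreRank (pushM G m) y = rkM G m y := by
  obtain ⟨z⟩ : Nonempty (Spec (S.residueField y)) := inferInstance
  haveI := (isCoh_pushM hG m).1
  have h := forward_residue hG hu hm y
  haveI := isQCoh_pullback (S.fromSpecResidueField y) (pushM G m)
  have hfp := isFP_pullback (S.fromSpecResidueField y) _ (QCohLib.isFP_of_isCoh _ (isCoh_pushM hG m))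
  have h1 := fibreRank_eq_of_freeAt _ ((isFinLocFreeOfRank_iff_freeAt _ hfp _).1 h z)
  rwa [DCohLib.fibreRank_pullback, Scheme.fromSpecResidueField_apply] at h1

theorem isFlatOver_of_hilb_affine [IsAffine S] [IsNoetherian S] [IsReduced S] (f : X ⟶ S) [IsProper f]
    {L : X.Modules} (hL : RelAmple.IsRelAmple f L) {F : X.Modules} (hF : Coh.IsCoh F)
    (h : IsLocallyConstant fun y : S => HilbStratLib.eul f F L y) : FlatMod.IsFlatOver f F := by
  obtain ⟨n, d, i, hd, hi, hf, ⟨e⟩⟩ := exists_embedding f hL
  haveI := hi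
  haveI : IsLocallyNoetherian X := LocallyOfFiniteType.isLocallyNoetherian f
  haveI : IsProper (CohB1.ProjSpaceOver.toBase n S) := BCLib.isProper_toBase n S
  haveI : IsLocallyNoetherian (CohB1.ProjSpaceOver n S) :=
    LocallyOfFiniteType.isLocallyNoetherian (CohB1.ProjSpaceOver.toBase n S)
  have hLi := AmpleLib.isInvertible_of_isRelAmple hL
  let O := Twist.twistOver n S 1
  let G := (Scheme.Modules.pushforward i).obj F
  have hG : Coh.IsCoh G := DevLib.isCoh_pushforward_closed i hF
  obtain ⟨m₀, hu⟩ := exists_unif hG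
  let L' := (Scheme.Modules.pullback i).obj O
  have hva : RelAmple.IsRelVeryAmplePn f L' := ⟨n, i, inferInstance, hf, ⟨Iso.refl _⟩⟩
  refine TwistFlat.isFlatOver_of_twists f
    (AmpleLib.isInvertible_pullback i (GenSeesawLib.isInvertible_twistOver n S 1))
    (fun W hW => AmpleEmb.ampleOn_of_isRelVeryAmplePn f hva hW) hF m₀ fun m hm => ?_
  have hlc : IsLocallyConstant (fibreRank (pushM G m)) := by
    refine (IsLocallyConstant.iff_eventually_eq _).2 fun y => ?_
    refine ((IsLocallyConstant.iff_eventually_eq _).1 h y).mono fun y' hy' => ?_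
    rw [fibreRank_pushM hG hu hm, fibreRank_pushM hG hu hm]
    have h1 := eul_eq_fiberRank_zero hu hm
    have key : (rkM G m y' : ℤ) = rkM G m y := by
      rw [← h1 y', ← h1 y, eul_closed f _ i hf (QCohLib.isFP_of_isCoh F hF) hLi e, eul_closed f _ i hf (QCohLib.isFP_of_isCoh F hF) hLi e]
      exact congrFun hy' (d * m)
    exact_mod_cast key
  haveI : Coh.IsQCoh (pushM G m) := (isCoh_pushM hG m).1
  have hlf := isFinLocFree_of_fibreRank_of_isReduced (pushM G m) (isCoh_pushM hG m).2 hlc
  refine DCohLib.isFinLocFree_iso ?_ hlf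
  exact (Coh.push _).mapIso (DCohLib.projIso i F (CohB1.tensorPow O m) ≪≫ (Scheme.Modules.pushforward i).mapIso
      (AmpleLib.tIso (Iso.refl F) (AmpleLib.pullPow i O m))) ≪≫
    (Scheme.Modules.pushforwardComp i (CohB1.ProjSpaceOver.toBase n S)).app _ ≪≫
    (Scheme.Modules.pushforwardCongr hf).app _

/-- Constant Hilbert polynomials over a reduced base give flatness. -/
theorem isFlatOver_of_hilb [IsLocallyNoetherian S] [IsReduced S] (f : X ⟶ S) [IsProper f]
    {L : X.Modules} (hL : RelAmple.IsRelAmple f L) {F : X.Modules} (hF : Coh.IsCoh F)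
    (h : IsLocallyConstant fun y : S => HilbStratLib.eul f F L y) : FlatMod.IsFlatOver f F := by
  intro x
  haveI := hF.1
  haveI : IsLocallyNoetherian X := LocallyOfFiniteType.isLocallyNoetherian f
  haveI : LocallyOfFinitePresentation f := inferInstance
  obtain ⟨V, hV, hxV, -⟩ := exists_isAffineOpen_mem_and_subset (x := f x) (U := ⊤) trivial
  haveI : IsAffine (V : Scheme.{u}) := hV
  haveI : IsLocallyNoetherian (V : Scheme.{u}) := isLocallyNoetherian_of_isOpenImmersion V.ι
  haveI : IsNoetherian (V : Scheme.{u}) := { }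
  haveI : IsReduced (V : Scheme.{u}) := isReduced_of_isOpenImmersion V.ι
  haveI : IsProper (pullback.snd f V.ι) := MorphismProperty.pullback_snd (P := @IsProper) _ _ inferInstance
  have hsq := IsPullback.of_hasPullback f V.ι
  have hV' := isFlatOver_of_hilb_affine (pullback.snd f V.ι) (AmpleLib.isRelAmple_baseChange f V.ι hL)
    (PullbackMod.isCoh_pullback (pullback.fst f V.ι) F hF) (by
      have he : ∀ v, HilbStratLib.eul (pullback.snd f V.ι) ((Scheme.Modules.pullback (pullback.fst f V.ι)).obj F)
          ((Scheme.Modules.pullback (pullback.fst f V.ι)).obj L) v = HilbStratLib.eul f F L (V.ι v) := fun v =>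
        HilbStratLib.eul_baseChange hsq (QCohLib.isFP_of_isCoh F hF) (AmpleLib.isInvertible_of_isRelAmple hL) v
      simp only [funext he]
      exact h.comp_continuous V.ι.continuous)
  obtain ⟨z, hz, -⟩ := Scheme.Pullback.exists_preimage_pullback (f := f) (g := V.ι) x (⟨_, hxV⟩ : V) rfl
  rw [← hz]
  exact isFlatOverAt_of_baseChange hsq F z
    (RingHom.Flat.of_bijective (ConcreteCategory.bijective_of_isIso (V.ι.stalkMap _))) (hV' z)

end Groth.Agent.FlatStrat
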