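import Groth.Agent.FlatStratLib.Approx
import Groth.Agent.FlatStratLib.Reduced

/-!
# Semicontinuity of the Hilbert polynomial
-/

set_option autoImplicit false
set_option backward.isDefEq.respectTransparency false
set_option linter.style.haveILetI false
set_option linter.unusedSectionVars false

universe u

open CategoryTheory CategoryTheory.Limits AlgebraicGeometry Filter
open Groth.Agent Groth.Agent.PullbackMod

noncomputable section

namespace Groth.Agent.FlatStrat

/-- A polynomial has eventually a constant sign. -/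
theorem eventually_sign (D : Polynomial ℚ) :
    (∀ᶠ x in atTop, 0 ≤ D.eval x) ∨ ∀ᶠ x in atTop, D.eval x < 0 := by
  rcases le_or_gt D.degree 0 with h | h
  · rw [Polynomial.eq_C_of_degree_le_zero h]
    simp only [Polynomial.eval_C]
    rcases le_or_gt 0 (D.coeff 0) with h0 | h0
    · exact Or.inl (Eventually.of_forall fun _ => h0)
    · exact Or.inr (Eventually.of_forall fun _ => h0)
  · rcases le_or_gt 0 D.leadingCoeff with h0 | h0
    · exact Or.inl ((D.tendsto_atTop_of_leadingCoeff_nonneg h h0).eventually_ge_atTop 0)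
    · exact Or.inr ((D.tendsto_atBot_of_leadingCoeff_nonpos h h0.le).eventually_lt_atBot 0)

/-- Comparison of polynomials can be made along multiples. -/
theorem eventually_le_iff_mul (P Q : Polynomial ℚ) {d : ℕ} (hd : 0 < d) :
    (∃ N : ℕ, ∀ n : ℕ, N ≤ n → P.eval (n : ℚ) ≤ Q.eval (n : ℚ)) ↔
      ∃ N : ℕ, ∀ m : ℕ, N ≤ m → P.eval ((d * m : ℕ) : ℚ) ≤ Q.eval ((d * m : ℕ) : ℚ) := by
  refine ⟨fun ⟨N, hN⟩ => ⟨N, fun m hm => hN _ (hm.trans (Nat.le_mul_of_pos_left m hd))⟩, fun ⟨N, hN⟩ => ?_⟩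
  rcases eventually_sign (Q - P) with h | h
  · obtain ⟨K, hK⟩ := Filter.eventually_atTop.1 (tendsto_natCast_atTop_atTop.eventually h)
    refine ⟨K, fun n hn => ?_⟩
    have := hK n hn
    rw [Polynomial.eval_sub] at this
    linarith
  · obtain ⟨K, hK⟩ := Filter.eventually_atTop.1 (tendsto_natCast_atTop_atTop.eventually h)
    have h1 := hK (d * (N + K)) ((Nat.le_add_left K N).trans (Nat.le_mul_of_pos_left _ hd))
    have h2 := hN (N + K) (Nat.le_add_right N K)
    rw [Polynomial.eval_sub] at h1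
    linarith

variable {n : ℕ} {S : Scheme.{u}}

/-- Over a Noetherian base the points with an eventually bigger Hilbert polynomial form a closed set. -/
theorem isClosed_hilb_ge [IsNoetherian S] {G : (CohB1.ProjSpaceOver n S).Modules} (hG : Coh.IsCoh G)
    (Φ : Polynomial ℚ) :
    IsClosed {y : S | ∃ N : ℕ, ∀ m : ℕ, N ≤ m → Φ.eval (m : ℚ) ≤ (hilb G y).eval (m : ℚ)} := by
  obtain ⟨m₀, hu⟩ := exists_unif hG
  let R : Set (Polynomial ℚ) :=
    {P | P ∈ Set.range (hilb G) ∧ ∃ N : ℕ, ∀ m : ℕ, N ≤ m → Φ.eval (m : ℚ) ≤ P.eval (m : ℚ)}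
  have hR : R.Finite := (finite_range_hilb hG).subset fun _ h => h.1
  suffices h : {y : S | ∃ N : ℕ, ∀ m : ℕ, N ≤ m → Φ.eval (m : ℚ) ≤ (hilb G y).eval (m : ℚ)} =
      ⋃ P ∈ R, closure {y | hilb G y = P} by
    rw [h]
    exact hR.isClosed_biUnion fun _ _ => isClosed_closure
  ext y
  simp only [Set.mem_iUnion, Set.mem_setOf_eq]
  constructor
  · exact fun h => ⟨hilb G y, ⟨⟨y, rfl⟩, h⟩, subset_closure rfl⟩
  · rintro ⟨P, ⟨-, N, hN⟩, hy⟩
    exact ⟨m₀ + N, fun m hm => (hN m (by omega)).trans (eval_le_of_mem_closure hG hu hy (by omega))⟩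

variable {X : Scheme.{u}}

/-- The points of the base with an eventually bigger Hilbert polynomial. -/
def geSet (f : X ⟶ S) (F L : X.Modules) (Φ : Polynomial ℚ) : Set S :=
  {s | ∃ N : ℕ, ∀ m : ℕ, N ≤ m → Φ.eval (m : ℚ) ≤ (HilbStratLib.eul f F L s m : ℚ)}

theorem isClosed_geSet_affine [IsAffine S] (f : X ⟶ S) [IsProper f] [LocallyOfFinitePresentation f] {L : X.Modules}
    (hL : RelAmple.IsRelAmple f L) {F : X.Modules} (hF : CohB1.IsFP F) (Φ : Polynomial ℚ) :
    IsClosed (geSet f F L Φ) := by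
  obtain ⟨n, d, i, hd, hi, hf, ⟨e⟩⟩ := exists_embedding f hL
  haveI := hi
  haveI : IsProper (CohB1.ProjSpaceOver.toBase n S) := BCLib.isProper_toBase n S
  haveI := GenSeesawLib.lfp_toBase n S
  haveI : LocallyOfFinitePresentation (i ≫ CohB1.ProjSpaceOver.toBase n S) := by rw [hf]; infer_instance
  haveI := lfp_of_comp i (CohB1.ProjSpaceOver.toBase n S)
  haveI := FibreDepth.isQCoh_of_isFP F hF
  have hG : CohB1.IsFP ((Scheme.Modules.pushforward i).obj F) := (FinLocFreeLib.isFP_push_iff i F).1 hF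
  let a := S.isoSpec
  obtain ⟨S₀, g, G₀, hS₀, -, hG₀, ⟨eG⟩⟩ := exists_noetherian_module (A := Γ(S, ⊤)) (n := n)
    (PullbackMod.isFP_pullback (FGA.projMap n a.inv) _ hG)
  haveI := hS₀
  have hLi := AmpleLib.isInvertible_of_isRelAmple hL
  have key : ∀ (s : S) (m : ℕ), (HilbStratLib.eul f F L s (d * m) : ℚ) = (hilb G₀ ((a.hom ≫ g) s)).eval (m : ℚ) := by
    intro s m
    let G := (Scheme.Modules.pullback (FGA.projMap n (a.hom ≫ g))).obj G₀
    haveI : IsProper (CohB1.ProjSpaceOver.toBase n S₀) := BCLib.isProper_toBase n _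
    have eG' : G ≅ (Scheme.Modules.pushforward i).obj F :=
      (Scheme.Modules.pullbackCongr (projMap_comp a.hom g).symm).app G₀ ≪≫
        ((Scheme.Modules.pullbackComp _ _).app G₀).symm ≪≫ (Scheme.Modules.pullback _).mapIso eG ≪≫
        (Scheme.Modules.pullbackComp _ _).app _ ≪≫
        (Scheme.Modules.pullbackCongr (show FGA.projMap n a.hom ≫ FGA.projMap n a.inv = 𝟙 _ by
          rw [projMap_comp, a.hom_inv_id]
          apply pullback.hom_ext
          · rw [projMap_fst, Category.id_comp]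
          · rw [projMap_snd, Category.comp_id, Category.id_comp])).app _ ≪≫
        (Scheme.Modules.pullbackId _).app _
    have h1 : HilbStratLib.eul (CohB1.ProjSpaceOver.toBase n S) ((Scheme.Modules.pushforward i).obj F)
        (Twist.twistOver n S 1) s m = HilbStratLib.eul f F L s (d * m) := by
      exact eul_closed f (CohB1.ProjSpaceOver.toBase n S) i hf hF hLi e s m
    rw [← h1, eul_noetherian_module (a.hom ≫ g) hG₀ eG' s, HilbStratLib.eul_eq_euler hG₀]
    exact_mod_cast hilb_spec hG₀ ((a.hom ≫ g) s) (m : ℤ)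
  let Φ' : Polynomial ℚ := Φ.comp (Polynomial.C (d : ℚ) * Polynomial.X)
  have hset : geSet f F L Φ = (a.hom ≫ g) ⁻¹'
      {y : S₀ | ∃ N : ℕ, ∀ m : ℕ, N ≤ m → Φ'.eval (m : ℚ) ≤ (hilb G₀ y).eval (m : ℚ)} := by
    ext s
    obtain ⟨Q, hQ⟩ := exists_poly_eul f hF hLi s
    simp only [geSet, Set.mem_setOf_eq, Set.mem_preimage, hQ]
    rw [eventually_le_iff_mul Φ Q hd]
    refine exists_congr fun N => forall₂_congr fun m _ => ?_
    rw [← hQ, key s m, Polynomial.eval_comp]
    simp
  rw [hset]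
  exact (isClosed_hilb_ge hG₀ Φ').preimage (a.hom ≫ g).continuous

/-- The points with an eventually bigger Hilbert polynomial form a closed set. -/
theorem isClosed_geSet (f : X ⟶ S) [IsProper f] [LocallyOfFinitePresentation f] {L : X.Modules}
    (hL : RelAmple.IsRelAmple f L) {F : X.Modules} (hF : CohB1.IsFP F) (Φ : Polynomial ℚ) :
    IsClosed (geSet f F L Φ) := by
  have hU : ⨆ V : S.affineOpens, (V : S.Opens) = ⊤ := iSup_affineOpens_eq_top S
  refine (TopologicalSpace.IsOpenCover.mk hU).isClosed_iff_coe_preimage.2 fun V => ?_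
  haveI : IsAffine (V.1 : Scheme.{u}) := V.2
  haveI : IsProper (pullback.snd f V.1.ι) := MorphismProperty.pullback_snd (P := @IsProper) _ _ inferInstance
  haveI : LocallyOfFinitePresentation (pullback.snd f V.1.ι) :=
    MorphismProperty.pullback_snd (P := @LocallyOfFinitePresentation) _ _ inferInstance
  have h := isClosed_geSet_affine (pullback.snd f V.1.ι) (AmpleLib.isRelAmple_baseChange f V.1.ι hL)
    (PullbackMod.isFP_pullback (pullback.fst f V.1.ι) F hF) Φ
  have e : geSet (pullback.snd f V.1.ι) ((Scheme.Modules.pullback (pullback.fst f V.1.ι)).obj F)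
      ((Scheme.Modules.pullback (pullback.fst f V.1.ι)).obj L) Φ = Subtype.val ⁻¹' geSet f F L Φ := by
    ext v
    simp only [geSet, Set.mem_setOf_eq, Set.mem_preimage]
    rw [HilbStratLib.eul_baseChange (IsPullback.of_hasPullback f V.1.ι) hF
      (AmpleLib.isInvertible_of_isRelAmple hL) v]
    rfl
  exact e ▸ h

end Groth.Agent.FlatStrat
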