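import Groth.Agent.FlatStratLib.Uniform

/-!
# Flatness is local freeness of the high direct images
-/

set_option autoImplicit false
set_option backward.isDefEq.respectTransparency false
set_option linter.style.haveILetI false
set_option linter.unusedSectionVars false

universe u

open CategoryTheory CategoryTheory.Limits AlgebraicGeometry
open Groth.Agent.PullbackMod

noncomputable section

namespace Groth.Agent.FlatStrat

/-- Everything is flat over the spectrum of a field. -/
theorem isFlatOver_specField {k : Type u} [Field k] {X : Scheme.{u}} (f : X ⟶ Spec (CommRingCat.of k)) (M : X.Modules) :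
    FlatMod.IsFlatOver f M := by
  intro y
  letI := FlatMod.moduleStalkOver f M y
  let A := (Spec (CommRingCat.of k)).presheaf.stalk (f y)
  let p : PrimeSpectrum k := f y
  letI : Algebra k A := StructureSheaf.stalkAlgebra (CommRingCat.of k) p
  haveI : IsLocalization.AtPrime A p.asIdeal := StructureSheaf.IsLocalization.to_stalk (CommRingCat.of k) p
  have hF : IsField A := by
    refine ⟨exists_pair_ne A, mul_comm, fun {z} hz => ?_⟩
    obtain ⟨⟨a, s⟩, hzs⟩ := IsLocalization.surj p.asIdeal.primeCompl z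
    have ha : a ≠ 0 := fun ha => hz ((IsLocalization.map_units A s).mul_left_eq_zero.1 (by rw [hzs, ha, map_zero]))
    have hu : IsUnit (z * algebraMap k A s) := hzs ▸ (IsUnit.mk0 a ha).map _
    exact IsUnit.exists_right_inv (isUnit_of_mul_isUnit_left hu)
  letI := hF.toField
  exact Module.Flat.of_free

variable {n : ℕ} {S T : Scheme.{u}}

/-- The twists of a module on projective space. -/
abbrev twM (F : (CohB1.ProjSpaceOver n S).Modules) (m : ℕ) : (CohB1.ProjSpaceOver n S).Modules :=
  CohB1.tensorMod F (CohB1.tensorPow (Twist.twistOver n S 1) m)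

/-- The direct images of the twists. -/
abbrev pushM (F : (CohB1.ProjSpaceOver n S).Modules) (m : ℕ) : S.Modules :=
  (Coh.push (CohB1.ProjSpaceOver.toBase n S)).obj (twM F m)

/-- The rank of the direct image of a twist at a point, read on the fibre. -/
abbrev rkM (F : (CohB1.ProjSpaceOver n S).Modules) (m : ℕ) (y : S) : ℕ :=
  CohIII.fiberRank (CohB1.ProjSpaceOver.toBase n S) (twM F m) 0 y

variable [IsNoetherian S] {F : (CohB1.ProjSpaceOver n S).Modules} (hF : Coh.IsCoh F) {m₀ : ℕ}
  (hu : Unif (CohB1.ProjSpaceOver.toBase n S) (Twist.twistOver n S 1) F m₀)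

include hF hu

/-- A flat pullback has locally free high direct images, of the rank read on the fibres. -/
theorem forward [IsLocallyNoetherian T] (φ : T ⟶ S)
    (hfl : FlatMod.IsFlatOver (CohB1.ProjSpaceOver.toBase n T) ((Scheme.Modules.pullback (FGA.projMap n φ)).obj F))
    {m : ℕ} (hm : m₀ ≤ m) :
    FlatMod.IsFinLocFree ((Scheme.Modules.pullback φ).obj (pushM F m)) ∧
      ∀ t : T, FreeAt (rkM F m (φ t)) ((Scheme.Modules.pullback φ).obj (pushM F m)) t := by
  haveI : IsProper (CohB1.ProjSpaceOver.toBase n S) := BCLib.isProper_toBase n S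
  haveI : IsProper (CohB1.ProjSpaceOver.toBase n T) := BCLib.isProper_toBase n T
  haveI := GenSeesawLib.lfp_toBase n S
  haveI : IsLocallyNoetherian (CohB1.ProjSpaceOver n S) :=
    LocallyOfFiniteType.isLocallyNoetherian (CohB1.ProjSpaceOver.toBase n S)
  haveI : IsLocallyNoetherian (CohB1.ProjSpaceOver n T) :=
    LocallyOfFiniteType.isLocallyNoetherian (CohB1.ProjSpaceOver.toBase n T)
  have hM : Coh.IsCoh (twM F m) := HilbLib.isCoh_twist (GenSeesawLib.isInvertible_twistOver n S 1) hF m
  obtain ⟨e⟩ := pullTwistPow φ F m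
  have hflM := DCohMore.isFlatOver_of_iso _ e.symm
    (isFlatOver_twist (GenSeesawLib.isInvertible_twistOver n T 1)
      (PullbackMod.isCoh_pullback (FGA.projMap n φ) F hF) hfl m)
  obtain ⟨-, h1, h2⟩ := push_of_flat (isPullback_projMap φ) hM (fun y => (hu m hm y).1)
    (fun y => (hu m hm y).2 1 one_pos) hflM
  exact ⟨h1, h2⟩

/-- Over a field there is no condition. -/
theorem forward_point {k : Type u} [Field k] (φ : Spec (CommRingCat.of k) ⟶ S) {m : ℕ} (hm : m₀ ≤ m)
    (z : Spec (CommRingCat.of k)) :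
    FlatMod.IsFinLocFreeOfRank (rkM F m (φ z)) ((Scheme.Modules.pullback φ).obj (pushM F m)) := by
  haveI : IsLocallyNoetherian (Spec (CommRingCat.of k)) := inferInstance
  obtain ⟨h1, h2⟩ := forward hF hu φ (isFlatOver_specField _ _) hm
  haveI := (isQCoh_and_isFP_of_isFinLocFree _ h1).1
  refine (isFinLocFreeOfRank_iff_freeAt _ (isQCoh_and_isFP_of_isFinLocFree _ h1).2 _).2 fun t => ?_
  obtain rfl : z = t := Subsingleton.elim (α := PrimeSpectrum k) z t
  exact h2 z

/-- The rank of a locally free pullback is the one read on the fibres. -/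
theorem rank_eq [IsLocallyNoetherian T] (φ : T ⟶ S)
    (hfl : FlatMod.IsFlatOver (CohB1.ProjSpaceOver.toBase n T) ((Scheme.Modules.pullback (FGA.projMap n φ)).obj F))
    {m : ℕ} (hm : m₀ ≤ m) {r : ℕ} (h : FlatMod.IsFinLocFreeOfRank r ((Scheme.Modules.pullback φ).obj (pushM F m)))
    (t : T) : rkM F m (φ t) = r := by
  obtain ⟨h1, h2⟩ := forward hF hu φ hfl hm
  haveI := (isQCoh_and_isFP_of_isFinLocFree _ h1).1
  exact freeAt_unique _ (h2 t)
    ((isFinLocFreeOfRank_iff_freeAt _ (isQCoh_and_isFP_of_isFinLocFree _ h1).2 r).1 h t)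

/-- The ranks are locally constant for a flat pullback. -/
theorem isLocallyConstant_rank [IsLocallyNoetherian T] (φ : T ⟶ S)
    (hfl : FlatMod.IsFlatOver (CohB1.ProjSpaceOver.toBase n T) ((Scheme.Modules.pullback (FGA.projMap n φ)).obj F))
    {m : ℕ} (hm : m₀ ≤ m) : IsLocallyConstant fun t : T => rkM F m (φ t) := by
  obtain ⟨h1, h2⟩ := forward hF hu φ hfl hm
  refine (IsLocallyConstant.iff_exists_open _).2 fun t => ?_
  haveI := (isQCoh_and_isFP_of_isFinLocFree _ h1).1
  obtain ⟨U, r, htU, ⟨i⟩⟩ := h1 t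
  refine ⟨U, U.2, htU, fun t' ht' => ?_⟩
  exact (freeAt_unique _ (h2 t') (freeAt_of_restrict_iso _ i ht')).trans
    (freeAt_unique _ (h2 t) (freeAt_of_restrict_iso _ i htU)).symm

omit hu in
/-- Conversely, local freeness of all high direct images gives flatness. -/
theorem flat_of [IsLocallyNoetherian T] (φ : T ⟶ S) (N₀ : ℕ)
    (h : ∀ m, N₀ ≤ m → FlatMod.IsFinLocFree ((Scheme.Modules.pullback φ).obj (pushM F m))) :
    FlatMod.IsFlatOver (CohB1.ProjSpaceOver.toBase n T) ((Scheme.Modules.pullback (FGA.projMap n φ)).obj F) := by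
  intro x
  haveI := hF.1
  haveI : Coh.IsQCoh ((Scheme.Modules.pullback (FGA.projMap n φ)).obj F) := isQCoh_pullback _ F
  obtain ⟨W, hWa, hxW, -⟩ :=
    exists_isAffineOpen_mem_and_subset (x := CohB1.ProjSpaceOver.toBase n T x) (U := ⊤) trivial
  haveI : IsAffine (W : Scheme.{u}) := hWa
  haveI : IsLocallyNoetherian (W : Scheme.{u}) := isLocallyNoetherian_of_isOpenImmersion W.ι
  haveI : IsNoetherian (W : Scheme.{u}) := { }
  haveI : IsProper (CohB1.ProjSpaceOver.toBase n (W : Scheme.{u})) := BCLib.isProper_toBase n _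
  haveI : IsLocallyNoetherian (CohB1.ProjSpaceOver n (W : Scheme.{u})) :=
    LocallyOfFiniteType.isLocallyNoetherian (CohB1.ProjSpaceOver.toBase n (W : Scheme.{u}))
  obtain ⟨N, hN⟩ := exists_isIso_bc0_proj (W.ι ≫ φ) hF
  have hflW : FlatMod.IsFlatOver (CohB1.ProjSpaceOver.toBase n (W : Scheme.{u}))
      ((Scheme.Modules.pullback (FGA.projMap n (W.ι ≫ φ))).obj F) := by
    refine TwistFlat.isFlatOver_of_twists _ (GenSeesawLib.isInvertible_twistOver n _ 1) ampleOn_twist
      (PullbackMod.isCoh_pullback _ F hF) (N₀ + N) fun m hm => ?_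
    obtain ⟨e⟩ := pullTwistPow (W.ι ≫ φ) F m
    haveI := hN m (by omega)
    refine DCohLib.isFinLocFree_iso ((Scheme.Modules.pullbackComp W.ι φ).app _ ≪≫
      asIso (CohBC.bc0 (CohB1.ProjSpaceOver.toBase n S) (W.ι ≫ φ) (CohB1.ProjSpaceOver.toBase n _)
        (FGA.projMap n (W.ι ≫ φ)) (isPullback_projMap _).w (twM F m)) ≪≫
      (Scheme.Modules.pushforward _).mapIso e) ?_
    exact isFinLocFree_pullback W.ι _ (h m (by omega))
  have hflW' : FlatMod.IsFlatOver (CohB1.ProjSpaceOver.toBase n (W : Scheme.{u}))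
      ((Scheme.Modules.pullback (FGA.projMap n W.ι)).obj ((Scheme.Modules.pullback (FGA.projMap n φ)).obj F)) :=
    DCohMore.isFlatOver_of_iso _ ((Scheme.Modules.pullbackCongr (projMap_comp W.ι φ).symm).app F ≪≫
      ((Scheme.Modules.pullbackComp _ _).app F).symm) hflW
  have hsq := isPullback_projMap (n := n) W.ι
  obtain ⟨z, hz, -⟩ := Scheme.Pullback.exists_preimage_pullback (f := CohB1.ProjSpaceOver.toBase n T) (g := W.ι)
    x (⟨_, hxW⟩ : W) rfl
  have hx : FGA.projMap n W.ι (hsq.isoPullback.inv z) = x := by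
    rw [← Scheme.Hom.comp_apply, hsq.isoPullback_inv_fst]
    exact hz
  rw [← hx]
  exact isFlatOverAt_of_baseChange hsq _ _
    (RingHom.Flat.of_bijective (ConcreteCategory.bijective_of_isIso (W.ι.stalkMap _))) (hflW' _)

end Groth.Agent.FlatStrat
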