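import Groth.Agent.FlatStratLib.Approx
import Groth.Agent.S4849

/-!
# The strata represent flatness with given Hilbert polynomial on all schemes
-/

set_option autoImplicit false
set_option backward.isDefEq.respectTransparency false
set_option linter.style.haveILetI false
set_option linter.unusedSectionVars false

universe u

open CategoryTheory CategoryTheory.Limits AlgebraicGeometry Opposite
open Groth.Agent Groth.Agent.PullbackMod

noncomputable section

namespace Groth.Agent.FlatStrat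

variable {n : ℕ} {S : Scheme.{u}}

theorem isFlatOver_projMap_comp {T' T : Scheme.{u}} (a : T' ⟶ T) (φ : T ⟶ S)
    {G : (CohB1.ProjSpaceOver n S).Modules} [Coh.IsQCoh G]
    (h : FlatMod.IsFlatOver (CohB1.ProjSpaceOver.toBase n T) ((Scheme.Modules.pullback (FGA.projMap n φ)).obj G)) :
    FlatMod.IsFlatOver (CohB1.ProjSpaceOver.toBase n T')
      ((Scheme.Modules.pullback (FGA.projMap n (a ≫ φ))).obj G) := by
  haveI : Coh.IsQCoh ((Scheme.Modules.pullback (FGA.projMap n φ)).obj G) := isQCoh_pullback _ G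
  exact DCohMore.isFlatOver_of_iso _ ((Scheme.Modules.pullbackComp _ _).app G ≪≫
    (Scheme.Modules.pullbackCongr (projMap_comp a φ)).app G) (isFlatOver_baseChange (isPullback_projMap a) h)

variable [IsNoetherian S] {G : (CohB1.ProjSpaceOver n S).Modules}

/-- A flat family with constant Hilbert polynomial on an affine scheme factors through the stratum. -/
theorem exists_lift_affine (hG : Coh.IsCoh G) (hS : LocallyOfFinitePresentation (specULiftZIsTerminal.from S))
    {m₀ : ℕ} (hu : Unif (CohB1.ProjSpaceOver.toBase n S) (Twist.twistOver n S 1) G m₀) (P : Polynomial ℚ)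
    {Z : Scheme.{u}} {e : Z ⟶ S}
    (huniv : ∀ (T : Scheme.{u}) (φ : T ⟶ S), (∃ g : T ⟶ Z, g ≫ e = φ) ↔
      ∀ m, m₀ ≤ m → FlatMod.IsFinLocFreeOfRank (rP P m) ((Scheme.Modules.pullback φ).obj (pushM G m)))
    {B : CommRingCat.{u}} (φ : Spec B ⟶ S)
    (hfl : FlatMod.IsFlatOver (CohB1.ProjSpaceOver.toBase n (Spec B))
      ((Scheme.Modules.pullback (FGA.projMap n φ)).obj G))
    (hP : ∀ t, hilb G (φ t) = P) : ∃ g : Spec B ⟶ Z, g ≫ e = φ := by
  haveI := hG.1
  haveI := hS
  let D := FPModelLib.zSys B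
  let c := FPModelLib.zCone B
  have hc : IsLimit c := FPModelLib.isLimitZCone B
  let term : D ⟶ (Functor.const _).obj (Spec (CommRingCat.of (ULift.{u} ℤ))) :=
    { app := fun i => specULiftZIsTerminal.from _
      naturality := fun _ _ _ => specULiftZIsTerminal.hom_ext _ _ }
  obtain ⟨i, φi, hφi, -⟩ := Scheme.exists_π_app_comp_eq_of_locallyOfFinitePresentation D term
    (specULiftZIsTerminal.from S) c hc φ (by ext j; exact specULiftZIsTerminal.hom_ext _ _)
  haveI : IsProper (CohB1.ProjSpaceOver.toBase n (D.obj i)) := BCLib.isProper_toBase n _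
  haveI := GenSeesawLib.lfp_toBase n (D.obj i)
  haveI : IsLocallyNoetherian (CohB1.ProjSpaceOver n (D.obj i)) :=
    LocallyOfFiniteType.isLocallyNoetherian (CohB1.ProjSpaceOver.toBase n (D.obj i))
  let Gi := (Scheme.Modules.pullback (FGA.projMap n φi)).obj G
  have hGi : Coh.IsCoh Gi := PullbackMod.isCoh_pullback _ G hG
  haveI := hGi.1
  haveI : ∀ (a b : (FPModelLib.ZIdx B)ᵒᵖ) (ψ : a ⟶ b), IsAffineHom (D.map ψ) := fun _ _ ψ => inferInstance
  have hY : IsPullback (c.π.app i) (𝟙 c.pt) (𝟙 (D.obj i)) (c.π.app i) := IsPullback.id_vert _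
  have hX : IsPullback (FGA.projMap n (c.π.app i)) (CohB1.ProjSpaceOver.toBase n c.pt)
      (CohB1.ProjSpaceOver.toBase n (D.obj i)) (c.π.app i) := isPullback_projMap _
  haveI : LocallyOfFinitePresentation (CohB1.ProjSpaceOver.toBase n (D.obj i) ≫ 𝟙 (D.obj i)) := by
    rw [Category.comp_id]; infer_instance
  haveI : QuasiCompact (CohB1.ProjSpaceOver.toBase n (D.obj i) ≫ 𝟙 (D.obj i)) := by
    rw [Category.comp_id]; infer_instance
  haveI : QuasiSeparated (CohB1.ProjSpaceOver.toBase n (D.obj i) ≫ 𝟙 (D.obj i)) := by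
    rw [Category.comp_id]; infer_instance
  have hflA : FlatMod.IsFlatOver (CohB1.ProjSpaceOver.toBase n c.pt)
      ((Scheme.Modules.pullback (FGA.projMap n (c.π.app i))).obj Gi) :=
    DCohMore.isFlatOver_of_iso _ ((Scheme.Modules.pullbackCongr
      (show FGA.projMap n φ = FGA.projMap n (c.π.app i) ≫ FGA.projMap n φi by rw [projMap_comp, hφi])).app G ≪≫
      ((Scheme.Modules.pullbackComp _ _).app G).symm) hfl
  obtain ⟨j, ψ, Xj, Yj, fj, gj, pY, pX, hYj, hXj, hflj⟩ := (S4849.result D c hc i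
    (CohB1.ProjSpaceOver.toBase n (D.obj i)) (𝟙 (D.obj i)) Gi (QCohLib.isFP_of_isCoh Gi hGi)
    (CohB1.ProjSpaceOver.toBase n c.pt) (𝟙 c.pt) (c.π.app i) (FGA.projMap n (c.π.app i)) hY hX).1 hflA
  haveI : IsIso gj := by
    have : MorphismProperty.isomorphisms Scheme gj :=
      MorphismProperty.of_isPullback hYj (inferInstanceAs (IsIso (𝟙 (D.obj i))))
    exact this
  let φj := D.map ψ ≫ φi
  have hsq : IsPullback pX (fj ≫ gj) (CohB1.ProjSpaceOver.toBase n (D.obj i)) (D.map ψ) := by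
    have := hXj.paste_vert hYj
    rwa [Category.comp_id] at this
  let e₀ := (isPullback_projMap (n := n) (D.map ψ)).isoIsPullback _ _ hsq
  have hflD : FlatMod.IsFlatOver (CohB1.ProjSpaceOver.toBase n (D.obj j))
      ((Scheme.Modules.pullback (FGA.projMap n φj)).obj G) := by
    have h1 : FlatMod.IsFlatOver (fj ≫ gj) ((Scheme.Modules.pullback pX).obj Gi) := fun x =>
      isFlatOverAt_comp fj gj _ x
        (RingHom.Flat.of_bijective (ConcreteCategory.bijective_of_isIso (gj.stalkMap _))) (hflj x)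
    haveI : Coh.IsQCoh ((Scheme.Modules.pullback pX).obj Gi) := isQCoh_pullback _ _
    have h2 := isFlatOver_baseChange (g' := e₀.hom) (f' := CohB1.ProjSpaceOver.toBase n (D.obj j)) (g := 𝟙 _)
      (IsPullback.of_horiz_isIso ⟨by
        rw [Category.comp_id]; exact (isPullback_projMap (n := n) (D.map ψ)).isoIsPullback_hom_snd _ _ hsq⟩) h1
    exact DCohMore.isFlatOver_of_iso _ ((Scheme.Modules.pullbackComp _ _).app Gi ≪≫
      (Scheme.Modules.pullbackCongr ((isPullback_projMap (n := n) (D.map ψ)).isoIsPullback_hom_fst _ _ hsq)).app Gi ≪≫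
      (Scheme.Modules.pullbackComp _ _).app G ≪≫ (Scheme.Modules.pullbackCongr (projMap_comp _ _)).app G) h2
  have hjφ : c.π.app j ≫ φj = φ := by rw [← Category.assoc, c.w, hφi]
  obtain ⟨J, hJ, hsep⟩ := exists_sep hG m₀
  have hlc : IsLocallyConstant fun t : D.obj j => hilb G (φj t) := by
    refine (IsLocallyConstant.iff_eventually_eq _).2 fun t => ?_
    have h1 : ∀ᶠ t' in nhds t, ∀ m ∈ J, rkM G m (φj t') = rkM G m (φj t) :=
      (Filter.eventually_all_finset J).2 fun m hm =>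
        (IsLocallyConstant.iff_eventually_eq _).1 (isLocallyConstant_rank hG hu φj hflD (hJ m hm)) t
    refine h1.mono fun t' ht' => (hilb_eq_iff hG hu (J := (J : Set ℕ)) hJ hsep ⟨_, rfl⟩ _).2 fun m hm => ?_
    rw [ht' m hm, rkM_eq_rP hG hu (hJ m hm)]
  let V : (D.obj j).Opens := ⟨_, hlc.isOpen_fiber P⟩
  have hr : Set.range (c.π.app j) ⊆ Set.range V.ι := by
    rw [Scheme.Opens.range_ι]
    rintro _ ⟨t, rfl⟩
    show hilb G (φj (c.π.app j t)) = P
    rw [← Scheme.Hom.comp_apply, hjφ]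
    exact hP t
  haveI : IsLocallyNoetherian (V : Scheme.{u}) := isLocallyNoetherian_of_isOpenImmersion V.ι
  have hflV := isFlatOver_projMap_comp V.ι φj hflD
  obtain ⟨g, hg⟩ := (huniv _ (V.ι ≫ φj)).2 fun m hm => by
    obtain ⟨h1, h2⟩ := forward hG hu (V.ι ≫ φj) hflV hm
    haveI := (isQCoh_and_isFP_of_isFinLocFree _ h1).1
    refine (isFinLocFreeOfRank_iff_freeAt _ (isQCoh_and_isFP_of_isFinLocFree _ h1).2 _).2 fun t => ?_
    have h3 := h2 t
    rwa [rkM_eq_rP hG hu hm, show hilb G ((V.ι ≫ φj) t) = P from t.2] at h3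
  refine ⟨IsOpenImmersion.lift V.ι (c.π.app j) hr ≫ g, ?_⟩
  rw [Category.assoc, hg, IsOpenImmersion.lift_fac_assoc, hjφ]

/-- The stratum of a polynomial represents flatness with this Hilbert polynomial on all schemes. -/
theorem exists_stratum_general (hG : Coh.IsCoh G) (hS : LocallyOfFinitePresentation (specULiftZIsTerminal.from S))
    (P : Polynomial ℚ) :
    ∃ (Z : Scheme.{u}) (e : Z ⟶ S), IsImmersion e ∧ QuasiCompact e ∧ LocallyOfFinitePresentation e ∧
      ∀ (T : Scheme.{u}) (φ : T ⟶ S), (∃ g : T ⟶ Z, g ≫ e = φ) ↔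
        (FlatMod.IsFlatOver (CohB1.ProjSpaceOver.toBase n T) ((Scheme.Modules.pullback (FGA.projMap n φ)).obj G) ∧
          ∀ t, hilb G (φ t) = P) := by
  haveI := hG.1
  by_cases hP : P ∈ Set.range (hilb G)
  · obtain ⟨m₀, hu⟩ := exists_unif hG
    obtain ⟨Z, e, hI, hrange, huniv⟩ := exists_stratum hG hu P hP
    haveI := hI
    haveI : IsLocallyNoetherian Z := LocallyOfFiniteType.isLocallyNoetherian e
    haveI : QuasiCompact e := ⟨fun U _ _ =>
      e.isEmbedding.isCompact_iff.2 (TopologicalSpace.NoetherianSpace.isCompact _)⟩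
    refine ⟨Z, e, hI, inferInstance, inferInstance, fun T φ => ⟨?_, ?_⟩⟩
    · rintro ⟨g, rfl⟩
      refine ⟨isFlatOver_projMap_comp g e (flat_of hG e m₀ fun m hm => ?_), fun t => (hrange _).1 ⟨g t, rfl⟩⟩
      have h := (huniv Z e).1 ⟨𝟙 _, Category.id_comp e⟩ m hm
      intro x
      obtain ⟨U, hxU, hi⟩ := h x
      exact ⟨U, _, hxU, hi⟩
    · rintro ⟨hfl, ht⟩
      have hloc : ∀ W : T.affineOpens, ∃ g : (W.1 : Scheme.{u}) ⟶ Z, g ≫ e = W.1.ι ≫ φ := by
        intro W
        obtain ⟨g, hg⟩ := exists_lift_affine hG hS hu P huniv (W.2.fromSpec ≫ φ)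
          (isFlatOver_projMap_comp W.2.fromSpec φ hfl) fun t => by
            rw [Scheme.Hom.comp_apply]; exact ht _
        refine ⟨W.2.isoSpec.hom ≫ g, ?_⟩
        rw [Category.assoc, hg, IsAffineOpen.isoSpec_hom, IsAffineOpen.toSpecΓ_fromSpec_assoc]
      choose g hg using hloc
      let 𝒰 := T.openCoverOfIsOpenCover (fun W : T.affineOpens => W.1) (iSup_affineOpens_eq_top T)
      refine ⟨Scheme.Cover.glueMorphisms 𝒰 g fun x y => ?_, 𝒰.hom_ext _ _ fun x => ?_⟩
      · rw [← cancel_mono e, Category.assoc, Category.assoc, hg, hg]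
        exact pullback.condition_assoc φ
      · rw [← Category.assoc, Scheme.Cover.ι_glueMorphisms]
        exact hg x
  · refine ⟨((⊥ : S.Opens) : Scheme.{u}), (⊥ : S.Opens).ι, inferInstance, inferInstance, inferInstance,
      fun T φ => ⟨?_, ?_⟩⟩
    · rintro ⟨g, rfl⟩
      haveI : IsEmpty T := ⟨fun t => (g t).2.elim⟩
      exact ⟨fun x => isEmptyElim (CohB1.ProjSpaceOver.toBase n T x), fun t => isEmptyElim t⟩
    · rintro ⟨-, ht⟩
      haveI : IsEmpty T := ⟨fun t => hP ⟨φ t, ht t⟩⟩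
      exact ⟨IsOpenImmersion.lift (⊥ : S.Opens).ι φ (fun _ ⟨t, _⟩ => isEmptyElim t),
        IsOpenImmersion.lift_fac _ _ _⟩

end Groth.Agent.FlatStrat
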