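import Groth.Agent.FlatStratLib.BC
import Groth.Agent.AmpleEmb.RelVanish
import Groth.Agent.TwistFlatLib.Flat
import Groth.Agent.DCohLib.ProjFlf
import Groth.Agent.DCohLib.TensorPull
import Groth.Agent.SpSeqLib.Acyclic
import Groth.Agent.HilbLib.Basic
import Groth.Agent.S2390

/-!
# For high twists the direct image commutes with any given base change
-/

set_option autoImplicit false
set_option backward.isDefEq.respectTransparency false
set_option linter.style.haveILetI false
set_option linter.unusedSectionVars false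

universe u

open CategoryTheory CategoryTheory.Limits AlgebraicGeometry
open Groth.Agent.PullbackMod

noncomputable section

namespace Groth.Agent.FlatStrat

variable {X S X' S' : Scheme.{u}} {f : X ⟶ S} {f' : X' ⟶ S'} {g : S' ⟶ S} {g' : X' ⟶ X}

/-- Twisting by a fixed module on the right. -/
abbrev tw (P : X.Modules) : X.Modules ⥤ X.Modules := (DCoh.tensorBi (X := X)).flip.obj P

theorem tw_obj (P M : X.Modules) : (tw P).obj M = CohB1.tensorMod M P := rfl

theorem exact_tw {P : X.Modules} (hP : PicF.IsInvertible P) :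
    PreservesFiniteLimits (tw P) ∧ PreservesFiniteColimits (tw P) :=
  DCohLib.exact_flip_of_isFlat fun x => isFlat_of_isFinLocFree P (CurveLib.isFinLocFree_of_isInvertible hP) x

variable (g') in
/-- Inverse images commute with twisting, naturally. -/
def pullTw (P : X.Modules) :
    tw P ⋙ Scheme.Modules.pullback g' ≅ Scheme.Modules.pullback g' ⋙ tw ((Scheme.Modules.pullback g').obj P) :=
  NatIso.ofComponents (fun M => ((DCohLib.pullTensorBiIsoSch g').app M).app P)
    fun φ => congr_app ((DCohLib.pullTensorBiIsoSch g').hom.naturality φ) P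

/-- A right exact sequence whose kernels have no first higher direct image stays right exact after direct image. -/
theorem exact_push [HasInjectiveResolutions X.Modules] {A B C : X.Modules} (d : A ⟶ B) (q : B ⟶ C) (w : d ≫ q = 0)
    (hex : (ShortComplex.mk d q w).Exact) [Epi q] (h₁ : IsZero ((Coh.Rpush f 1).obj (kernel q)))
    (h₂ : IsZero ((Coh.Rpush f 1).obj (kernel d))) :
    (ShortComplex.mk ((Scheme.Modules.pushforward f).map d) ((Scheme.Modules.pushforward f).map q)
      (by rw [← Functor.map_comp, w, Functor.map_zero])).Exact ∧ Epi ((Scheme.Modules.pushforward f).map q) := by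
  haveI : EnoughInjectives X.Modules := inferInstance
  let l : A ⟶ kernel q := kernel.lift q d w
  haveI : Epi l := hex.epi_kernelLift
  have hq : (ShortComplex.mk (kernel.ι q) q (kernel.condition q)).ShortExact :=
    { exact := ShortComplex.exact_kernel q }
  have hk : (ShortComplex.mk (kernel.ι d) l (by
      rw [← cancel_mono (kernel.ι q), Category.assoc, kernel.lift_ι, zero_comp, kernel.condition])).ShortExact :=
    { exact := by
        refine ShortComplex.exact_of_f_is_kernel _ (KernelFork.IsLimit.ofι' _ _ fun k hk => ?_)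
        refine ⟨kernel.lift d k ?_, kernel.lift_ι _ _ _⟩
        rw [← kernel.lift_ι q d w, ← Category.assoc, hk, zero_comp] }
  haveI := SpSeqLib.epi_map_of_isZero_rightDerived_one (S := Scheme.Modules.pushforward f) hq h₁
  haveI := SpSeqLib.epi_map_of_isZero_rightDerived_one (S := Scheme.Modules.pushforward f) hk h₂
  refine ⟨?_, inferInstance⟩
  rw [ShortComplex.exact_iff_exact_up_to_refinements]
  intro W x hx
  have h3 := (hq.exact.map_of_mono_of_preservesKernel (Scheme.Modules.pushforward f) inferInstance inferInstance)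
  haveI : (Scheme.Modules.pushforward f).IsRightAdjoint :=
    (Scheme.Modules.pullbackPushforwardAdjunction f).isRightAdjoint
  haveI : Mono ((ShortComplex.mk (kernel.ι q) q (kernel.condition q)).map (Scheme.Modules.pushforward f)).f :=
    (Scheme.Modules.pushforward f).map_mono (kernel.ι q)
  obtain ⟨z, hz⟩ : ∃ z, z ≫ (Scheme.Modules.pushforward f).map (kernel.ι q) = x :=
    ⟨h3.lift x hx, h3.lift_f x hx⟩
  obtain ⟨W', π, hπ, y, hy⟩ := surjective_up_to_refinements_of_epi ((Scheme.Modules.pushforward f).map l) z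
  refine ⟨W', π, hπ, y, ?_⟩
  dsimp at hy ⊢
  rw [← hz, ← Category.assoc, hy, Category.assoc, ← Functor.map_comp, kernel.lift_ι]

/-- Base change for the cokernel of a map between two modules with base change. -/
theorem isIso_bc0_of_presentation (w : g' ≫ f = f' ≫ g) {A B C : X.Modules} (d : A ⟶ B) (q : B ⟶ C) (wd : d ≫ q = 0)
    (h₁ : (ShortComplex.mk ((Scheme.Modules.pushforward f).map d) ((Scheme.Modules.pushforward f).map q)
      (by rw [← Functor.map_comp, wd, Functor.map_zero])).Exact) [Epi ((Scheme.Modules.pushforward f).map q)]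
    (h₂ : (ShortComplex.mk ((Scheme.Modules.pushforward f').map ((Scheme.Modules.pullback g').map d))
      ((Scheme.Modules.pushforward f').map ((Scheme.Modules.pullback g').map q))
      (by rw [← Functor.map_comp, ← Functor.map_comp, wd, Functor.map_zero, Functor.map_zero])).Exact)
    [Epi ((Scheme.Modules.pushforward f').map ((Scheme.Modules.pullback g').map q))]
    [Epi (CohBC.bc0 f g f' g' w A)] [IsIso (CohBC.bc0 f g f' g' w B)] : IsIso (CohBC.bc0 f g f' g' w C) := by
  let P := Scheme.Modules.pushforward f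
  let G := Scheme.Modules.pullback g
  let P' := Scheme.Modules.pushforward f'
  let G' := Scheme.Modules.pullback g'
  let βA := CohBC.bc0 f g f' g' w A
  let βB := CohBC.bc0 f g f' g' w B
  let βC := CohBC.bc0 f g f' g' w C
  have nd : G.map (P.map d) ≫ βB = βA ≫ P'.map (G'.map d) := bc0_natural w d
  have nq : G.map (P.map q) ≫ βC = βB ≫ P'.map (G'.map q) := bc0_natural w q
  haveI : G.IsLeftAdjoint := (Scheme.Modules.pullbackPushforwardAdjunction g).isLeftAdjoint
  haveI : Epi (G.map (P.map q)) := G.map_epi (P.map q)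
  let u : P'.obj (G'.obj B) ⟶ G.obj (P.obj C) := inv βB ≫ G.map (P.map q)
  have hu : P'.map (G'.map d) ≫ u = 0 := by
    rw [← cancel_epi βA, comp_zero, ← Category.assoc, ← nd, Category.assoc]
    simp only [u, IsIso.hom_inv_id_assoc]
    rw [← G.map_comp, ← P.map_comp, wd, P.map_zero, G.map_zero]
  let σ : P'.obj (G'.obj C) ⟶ G.obj (P.obj C) := h₂.desc u hu
  have hσ : P'.map (G'.map q) ≫ σ = u := h₂.g_desc u hu
  refine ⟨⟨σ, ?_, ?_⟩⟩
  · rw [← cancel_epi (G.map (P.map q)), ← Category.assoc, nq, Category.assoc, hσ]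
    simp only [u, IsIso.hom_inv_id_assoc]
    exact (Category.comp_id _).symm
  · rw [← cancel_epi (P'.map (G'.map q)), ← Category.assoc, hσ]
    simp only [u, Category.assoc]
    rw [nq, IsIso.inv_hom_id_assoc]
    exact (Category.comp_id _).symm

/-- High twists of a kernel have no higher direct image. -/
theorem exists_rpush_kernel [IsProper f] [IsNoetherian S] [HasInjectiveResolutions X.Modules] {L : X.Modules}
    (hL : PicF.IsInvertible L) (ha : ∀ W : S.Opens, IsAffineOpen W → CohB1.IsAmple (L.restrict (f ⁻¹ᵁ W).ι))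
    {A B : X.Modules} (hA : Coh.IsCoh A) (φ : A ⟶ B) (hB : Coh.IsCoh B) :
    ∃ N : ℕ, ∀ n, N ≤ n → IsZero ((Coh.Rpush f 1).obj (kernel ((tw (CohB1.tensorPow L n)).map φ))) := by
  haveI : IsLocallyNoetherian X := LocallyOfFiniteType.isLocallyNoetherian f
  have hK : Coh.IsCoh (kernel φ) := (QCohLib.isCoh_kernel_cokernel φ hA hB).1
  obtain ⟨N, hN⟩ := AmpleEmb.exists_isZero_rpush_tensorPow f hL ha hK
  refine ⟨N, fun n hn => ?_⟩
  haveI := (exact_tw (AmpleLib.isInvertible_tensorPow hL n)).1
  exact IsZero.of_iso (hN n hn 1 one_pos)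
    ((Coh.Rpush f 1).mapIso (PreservesKernel.iso (tw (CohB1.tensorPow L n)) φ).symm)

variable (f) in
/-- Presentations by coherent flat modules. -/
def HasFlatCover : Prop := ∀ M : X.Modules, Coh.IsCoh M →
  ∃ (G : X.Modules) (p : G ⟶ M), Epi p ∧ Coh.IsCoh G ∧ FlatMod.IsFlatOver f G

theorem isFlatOver_twist {L : X.Modules} (hL : PicF.IsInvertible L) {G : X.Modules} [IsLocallyNoetherian X]
    (hG : Coh.IsCoh G) (hfl : FlatMod.IsFlatOver f G) (m : ℕ) :
    FlatMod.IsFlatOver f (CohB1.tensorMod G (CohB1.tensorPow L m)) := by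
  haveI := hG.1
  haveI : Coh.IsQCoh (DCohLib.tmod G (CohB1.tensorPow L m)) := (HilbLib.isCoh_twist hL hG m).1
  exact TwistFlat.isFlatOver_tensor f (AmpleLib.isInvertible_tensorPow hL m) hfl

/-- High twists of a flat module: vanishing on the fibres and base change. -/
theorem exists_isIso_bc0_of_flat (h : IsPullback g' f' f g) [IsProper f] [LocallyOfFinitePresentation f]
    [IsNoetherian S] {L : X.Modules} (hL : PicF.IsInvertible L)
    (ha : ∀ W : S.Opens, IsAffineOpen W → CohB1.IsAmple (L.restrict (f ⁻¹ᵁ W).ι)) {G : X.Modules}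
    (hG : Coh.IsCoh G) (hfl : FlatMod.IsFlatOver f G) :
    ∃ N : ℕ, ∀ m, N ≤ m → IsIso (CohBC.bc0 f g f' g' h.w (CohB1.tensorMod G (CohB1.tensorPow L m))) := by
  haveI : IsLocallyNoetherian X := LocallyOfFiniteType.isLocallyNoetherian f
  haveI : HasInjectiveResolutions X.Modules := inferInstance
  obtain ⟨N, hN⟩ := AmpleEmb.exists_isZero_rpush_tensorPow f hL ha hG
  refine ⟨N, fun m hm => ?_⟩
  have hM := HilbLib.isCoh_twist hL hG m
  have hflM := isFlatOver_twist hL hG hfl m
  exact isIso_bc0_of_vanish h (QCohLib.isFP_of_isCoh _ hM) hflM fun s =>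
    (S2390.result f _ hM hflM fun i hi => hN m hm i hi).1 s 1 one_pos

/-- For high twists the direct image commutes with a given base change. -/
theorem exists_isIso_bc0 (h : IsPullback g' f' f g) [IsProper f] [LocallyOfFinitePresentation f]
    [IsNoetherian S] [IsNoetherian S'] (hcov : HasFlatCover f) {L : X.Modules} (hL : PicF.IsInvertible L)
    (ha : ∀ W : S.Opens, IsAffineOpen W → CohB1.IsAmple (L.restrict (f ⁻¹ᵁ W).ι))
    (ha' : ∀ W : S'.Opens, IsAffineOpen W →
      CohB1.IsAmple (((Scheme.Modules.pullback g').obj L).restrict (f' ⁻¹ᵁ W).ι))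
    {F : X.Modules} (hF : Coh.IsCoh F) :
    ∃ N : ℕ, ∀ m, N ≤ m → IsIso (CohBC.bc0 f g f' g' h.w (CohB1.tensorMod F (CohB1.tensorPow L m))) := by
  haveI : IsProper f' := MorphismProperty.of_isPullback (P := @IsProper) h inferInstance
  haveI : IsLocallyNoetherian X := LocallyOfFiniteType.isLocallyNoetherian f
  haveI : IsLocallyNoetherian X' := LocallyOfFiniteType.isLocallyNoetherian f'
  haveI : HasInjectiveResolutions X.Modules := inferInstance
  haveI : HasInjectiveResolutions X'.Modules := inferInstance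
  obtain ⟨B, q, hq, hB, hBfl⟩ := hcov F hF
  have hK : Coh.IsCoh (kernel q) := (QCohLib.isCoh_kernel_cokernel q hB hF).1
  obtain ⟨A, p, hp, hA, hAfl⟩ := hcov _ hK
  let d := p ≫ kernel.ι q
  have wd : d ≫ q = 0 := by simp [d]
  have hex : (ShortComplex.mk d q wd).Exact := by
    rw [ShortComplex.exact_iff_epi_kernel_lift]
    have : kernel.lift q d wd = p := by rw [← cancel_mono (kernel.ι q), kernel.lift_ι]
    show Epi (kernel.lift q d wd)
    rw [this]
    exact hp
  let G' := Scheme.Modules.pullback g'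
  have hL' := AmpleLib.isInvertible_pullback g' hL
  have hA' := PullbackMod.isCoh_pullback g' A hA
  have hB' := PullbackMod.isCoh_pullback g' B hB
  have hF' := PullbackMod.isCoh_pullback g' F hF
  obtain ⟨N₁, h₁⟩ := exists_rpush_kernel (f := f) hL ha hB q hF
  obtain ⟨N₂, h₂⟩ := exists_rpush_kernel (f := f) hL ha hA d hB
  obtain ⟨N₃, h₃⟩ := exists_rpush_kernel (f := f') hL' ha' hB' (G'.map q) hF'
  obtain ⟨N₄, h₄⟩ := exists_rpush_kernel (f := f') hL' ha' hA' (G'.map d) hB'
  obtain ⟨N₅, h₅⟩ := exists_isIso_bc0_of_flat h hL ha hA hAfl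
  obtain ⟨N₆, h₆⟩ := exists_isIso_bc0_of_flat h hL ha hB hBfl
  refine ⟨N₁ + N₂ + N₃ + N₄ + N₅ + N₆, fun m hm => ?_⟩
  let P := CohB1.tensorPow L m
  let T := tw P
  haveI := (exact_tw (AmpleLib.isInvertible_tensorPow hL m)).1
  haveI := (exact_tw (AmpleLib.isInvertible_tensorPow hL m)).2
  haveI : G'.IsLeftAdjoint := (Scheme.Modules.pullbackPushforwardAdjunction g').isLeftAdjoint
  haveI : Epi (T.map q) := T.map_epi q
  have wT : T.map d ≫ T.map q = 0 := by rw [← Functor.map_comp, wd, Functor.map_zero]
  have hexT : (ShortComplex.mk (T.map d) (T.map q) wT).Exact := hex.map T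
  obtain ⟨hr1, hr1'⟩ := exact_push (f := f) (T.map d) (T.map q) wT hexT (h₁ m (by omega)) (h₂ m (by omega))
  let e₀ := AmpleLib.pullPow g' L m
  let η := pullTw g' P
  let e : ∀ {M N : X.Modules} (φ : M ⟶ N),
      kernel (G'.map (T.map φ)) ≅ kernel ((tw (CohB1.tensorPow ((Scheme.Modules.pullback g').obj L) m)).map (G'.map φ)) :=
    fun {M N} φ => kernel.mapIso _ _
      (η.app M ≪≫ ((DCoh.tensorBi (X := X')).flip.mapIso e₀).app (G'.obj M))
      (η.app N ≪≫ ((DCoh.tensorBi (X := X')).flip.mapIso e₀).app (G'.obj N))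
      (by
        simp only [Iso.trans_hom, Iso.app_hom, Category.assoc]
        rw [← ((DCoh.tensorBi (X := X')).flip.mapIso e₀).hom.naturality, ← Category.assoc, ← Category.assoc]
        exact congrArg (· ≫ _) (η.hom.naturality φ))
  have wG : G'.map (T.map d) ≫ G'.map (T.map q) = 0 := by rw [← Functor.map_comp, wT, Functor.map_zero]
  haveI : PreservesFiniteColimits G' := by
    haveI := (Scheme.Modules.pullbackPushforwardAdjunction g').leftAdjoint_preservesColimits
    infer_instance
  have hexG : (ShortComplex.mk (G'.map (T.map d)) (G'.map (T.map q)) wG).Exact :=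
    hexT.map_of_epi_of_preservesCokernel G' inferInstance inferInstance
  haveI : Epi (G'.map (T.map q)) := G'.map_epi (T.map q)
  obtain ⟨hr2, hr2'⟩ := exact_push (f := f') (G'.map (T.map d)) (G'.map (T.map q)) wG hexG
    ((h₃ m (by omega)).of_iso ((Coh.Rpush f' 1).mapIso (e q)))
    ((h₄ m (by omega)).of_iso ((Coh.Rpush f' 1).mapIso (e d)))
  haveI := hr1'
  haveI := hr2'
  haveI : IsIso (CohBC.bc0 f g f' g' h.w (T.obj A)) := h₅ m (by omega)
  haveI : IsIso (CohBC.bc0 f g f' g' h.w (T.obj B)) := h₆ m (by omega)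
  exact isIso_bc0_of_presentation h.w (T.map d) (T.map q) wT hr1 hr2

end Groth.Agent.FlatStrat
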