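import Groth.Agent.FlatStratLib.Strata
import Groth.Agent.CMRegLib.OnX

/-!
# The flattening stratification
-/

set_option autoImplicit false
set_option backward.isDefEq.respectTransparency false
set_option linter.style.haveILetI false
set_option linter.unusedSectionVars false

universe u

open CategoryTheory CategoryTheory.Limits AlgebraicGeometry
open Groth.Agent.PullbackMod

noncomputable section

namespace Groth.Agent.FlatStrat

variable {n : ℕ} {S : Scheme.{u}} {F : (CohB1.ProjSpaceOver n S).Modules}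

/-- The Euler characteristic of the twists on the fibre, in the form of the moduli statements. -/
theorem eulerCharLE_eq [IsNoetherian S] (hF : Coh.IsCoh F) (s : (Over.mk (𝟙 S)).left) (m : ℤ) :
    FGA.eulerCharLE ((Over.mk (𝟙 S)).left.residueField s) (FGA.fibreAt (CohB1.ProjSpaceOver.toBase n S) (Over.mk (𝟙 S)) s).left
        (CohB1.tensorMod
          (FGA.restrFibre (CohB1.ProjSpaceOver.toBase n S) (Over.mk (𝟙 S)) s (FGA.ET (CohB1.ProjSpaceOver.toBase n S) F (Over.mk (𝟙 S))))
          (FGA.restrFibre (CohB1.ProjSpaceOver.toBase n S) (Over.mk (𝟙 S)) s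
            (FGA.ET (CohB1.ProjSpaceOver.toBase n S) (Twist.twistOver n S m) (Over.mk (𝟙 S))))) n =
      chiM F ((Over.mk (𝟙 S)).hom s) m := by
  let y : S := (Over.mk (𝟙 S)).hom s
  let f := CohB1.ProjSpaceOver.toBase n S
  let f' := PicF.XTproj f (Over.mk (𝟙 S))
  haveI : IsProper f := BCLib.isProper_toBase n S
  haveI : IsProper f' := MorphismProperty.pullback_snd (P := @IsProper) _ _ inferInstance
  haveI : IsLocallyNoetherian (CohB1.ProjSpaceOver n S) := LocallyOfFiniteType.isLocallyNoetherian f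
  have hL := GenSeesawLib.isInvertible_twistOver n S m
  haveI : Coh.IsQCoh (CohB1.tensorMod F (Twist.twistOver n S m)) := (CMRegLib.isCoh_tensor_inv hF hL).1
  obtain ⟨e⟩ := HilbStratLib.nonempty_twist_fibre (n := n) y m
  rw [show chiM F ((Over.mk (𝟙 S)).hom s) m = _ from (HilbStratLib.sum_fibre_twist hF y m hL e (n + 1) (by omega)).symm]
  refine Finset.sum_congr rfl fun i _ => congrArg (fun z : ℕ => (-1 : ℤ) ^ i * (z : ℤ)) ?_
  haveI : IsProper ((FGA.fibreAt f (Over.mk (𝟙 S)) s).left ↘ Spec (CommRingCat.of ((Over.mk (𝟙 S)).left.residueField s))) :=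
    MorphismProperty.pullback_snd (P := @IsProper) _ _ ‹IsProper f'›
  refine Eq.trans ?_ (BCLib.fiberRank_baseChange (IsPullback.of_hasPullback f (Over.mk (𝟙 S)).hom)
    (CohB1.tensorMod F (Twist.twistOver n S m)) i s)
  exact (CMRegLib.hh_finrank_iso (X := (FGA.fibreAt f (Over.mk (𝟙 S)) s).left) (k := (Over.mk (𝟙 S)).left.residueField s) ((Scheme.Modules.pullback (f'.fiberι s)).mapIso (AmpleLib.pullTensor _ _ _) ≪≫
    AmpleLib.pullTensor (f'.fiberι s) _ _) i).symm

/-- The flattening stratification by Hilbert polynomials. -/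
theorem main [IsNoetherian S] (hF : Coh.IsCoh F) :
    ∃ (St : ↥((finite_range_hilb hF).toFinset) → Scheme.{u}) (e : ∀ P, St P ⟶ S),
      (∀ P, IsImmersion (e P)) ∧ (∀ P (y : S), y ∈ Set.range (e P) ↔ hilb F y = P.1) ∧
      (∀ (T : Scheme.{u}) [IsLocallyNoetherian T] (φ : T ⟶ S),
        FlatMod.IsFlatOver (CohB1.ProjSpaceOver.toBase n T) ((Scheme.Modules.pullback (FGA.projMap n φ)).obj F) ↔
          ∃ g : T ⟶ ∐ St, g ≫ Limits.Sigma.desc e = φ) ∧
      ∀ P, ∀ y ∈ closure (Set.range (e P)), ∃ m₀ : ℕ, ∀ m, m₀ ≤ m →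
        P.1.eval (m : ℚ) ≤ (hilb F y).eval (m : ℚ) := by
  obtain ⟨m₀, hu⟩ := exists_unif hF
  choose St e hI hrange huniv using fun P : ↥((finite_range_hilb hF).toFinset) =>
    exists_stratum hF hu P.1 ((finite_range_hilb hF).mem_toFinset.1 P.2)
  refine ⟨St, e, hI, hrange, fun T _ φ => ?_, fun P y hy => ⟨m₀, fun m hm => ?_⟩⟩
  · let i := Finite.equivFin ↥((finite_range_hilb hF).toFinset)
    have key := flat_iff_lift hF hu (T := T) (ι := Fin _) (fun j => St (i.symm j)) (fun j => e (i.symm j))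
      (fun j => (i.symm j).1) (Subtype.val_injective.comp i.symm.injective)
      (fun y => ⟨i ⟨hilb F y, (finite_range_hilb hF).mem_toFinset.2 ⟨y, rfl⟩⟩, by simp⟩)
      (fun j => huniv (i.symm j)) φ
    rw [key]
    let r : (∐ fun j => St (i.symm j)) ≅ ∐ St := Sigma.whiskerEquiv i.symm fun _ => Iso.refl _
    have hr : r.hom ≫ Sigma.desc e = Sigma.desc fun j => e (i.symm j) := by
      refine Sigma.hom_ext _ _ fun j => ?_
      simp [r]
    exact ⟨fun ⟨g, hg⟩ => ⟨g ≫ r.hom, by rw [Category.assoc, hr, hg]⟩,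
      fun ⟨g, hg⟩ => ⟨g ≫ r.inv, by rw [Category.assoc, ← hr, Iso.inv_hom_id_assoc, hg]⟩⟩
  · refine eval_le_of_mem_closure hF hu (closure_mono (fun x hx => ?_) hy) hm
    exact (hrange P x).1 hx

end Groth.Agent.FlatStrat
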