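import Groth.Agent.FlatStratLib.Large
import Groth.Agent.RegLib.SerreFP
import Groth.Agent.AmpleEmb.RelAmple
import Groth.Agent.GenSeesawLib.ProjFibre
import Groth.Agent.CMRegLib.BoundFree
import Groth.Agent.CMRegLib.Res
import Groth.Agent.TildePerf.RelPerf
import Groth.Prelude.Def_FGA

/-!
# High twists on projective space over a Noetherian scheme commute with base change
-/

set_option autoImplicit false
set_option backward.isDefEq.respectTransparency false
set_option linter.style.haveILetI false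
set_option linter.unusedSectionVars false

universe u

open CategoryTheory CategoryTheory.Limits AlgebraicGeometry
open Groth.Agent.PullbackMod

noncomputable section

namespace Groth.Agent.FlatStrat

variable {n : ℕ} {S T U : Scheme.{u}}

theorem projMap_fst (φ : T ⟶ S) : FGA.projMap n φ ≫ pullback.fst _ _ = pullback.fst _ _ := by
  unfold FGA.projMap
  rw [pullback.lift_fst, Category.comp_id]

theorem isPullback_projMap (φ : T ⟶ S) :
    IsPullback (FGA.projMap n φ) (CohB1.ProjSpaceOver.toBase n T) (CohB1.ProjSpaceOver.toBase n S) φ := by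
  refine IsPullback.of_right ?_ (pullback.lift_snd _ _ _)
    (IsPullback.of_hasPullback (CohB1.ProjSpace.toSpec n (ULift.{u} ℤ)) (specULiftZIsTerminal.from S))
  rw [projMap_fst, specULiftZIsTerminal.hom_ext (φ ≫ specULiftZIsTerminal.from S) (specULiftZIsTerminal.from T)]
  exact IsPullback.of_hasPullback _ _

theorem projMap_snd (φ : T ⟶ S) : FGA.projMap n φ ≫ pullback.snd _ _ = pullback.snd _ _ ≫ φ :=
  pullback.lift_snd _ _ _

theorem projMap_comp (a : U ⟶ T) (φ : T ⟶ S) :
    FGA.projMap n a ≫ FGA.projMap n φ = FGA.projMap n (a ≫ φ) := by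
  apply pullback.hom_ext
  · rw [Category.assoc, projMap_fst, projMap_fst, projMap_fst]
  · rw [Category.assoc, projMap_snd, ← Category.assoc, projMap_snd, projMap_snd, Category.assoc]

/-- The inverse image of the twists. -/
def pullTwist (φ : T ⟶ S) (d : ℤ) :
    (Scheme.Modules.pullback (FGA.projMap n φ)).obj (Twist.twistOver n S d) ≅ Twist.twistOver n T d :=
  (Scheme.Modules.pullbackComp _ _).app _ ≪≫ (Scheme.Modules.pullbackCongr (projMap_fst φ)).app _

theorem ampleOn_twist (W : S.Opens) (hW : IsAffineOpen W) :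
    CohB1.IsAmple ((Twist.twistOver n S 1).restrict (CohB1.ProjSpaceOver.toBase n S ⁻¹ᵁ W).ι) := by
  haveI : IsProper (CohB1.ProjSpaceOver.toBase n S) := BCLib.isProper_toBase n S
  refine AmpleEmb.ampleOn_of_isRelVeryAmplePn (CohB1.ProjSpaceOver.toBase n S)
    ⟨n, 𝟙 _, inferInstance, Category.id_comp _, ⟨((Scheme.Modules.pullbackId _).app _).symm⟩⟩ hW

theorem ampleOn_pullTwist (φ : T ⟶ S) (W : T.Opens) (hW : IsAffineOpen W) :
    CohB1.IsAmple (((Scheme.Modules.pullback (FGA.projMap n φ)).obj (Twist.twistOver n S 1)).restrict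
      (CohB1.ProjSpaceOver.toBase n T ⁻¹ᵁ W).ι) :=
  AmpleLib.isAmple_of_iso ((Scheme.Modules.restrictFunctor _).mapIso (pullTwist φ 1).symm) (ampleOn_twist W hW)

theorem hasFlatCover_affine (A : CommRingCat.{u}) [IsNoetherianRing A] :
    HasFlatCover (CohB1.ProjSpaceOver.toBase n (Spec A)) := by
  intro M hM
  haveI := hM.1
  haveI : IsProper (CohB1.ProjSpaceOver.toBase n (Spec A)) := BCLib.isProper_toBase n _
  haveI : Flat (CohB1.ProjSpaceOver.toBase n (Spec A)) := GenSeesawLib.flat_toBase n _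
  haveI : IsLocallyNoetherian (CohB1.ProjSpaceOver n (Spec A)) :=
    LocallyOfFiniteType.isLocallyNoetherian (CohB1.ProjSpaceOver.toBase n (Spec A))
  obtain ⟨a, k, p, hp⟩ := RegLib.exists_epi_affine_ft n M (ExactConstrLib.isFT_of_isFP (QCohLib.isFP_of_isCoh M hM))
  have hO : ∀ _ : Fin k, FlatMod.IsFinLocFree (Twist.twistOver n (Spec A) (-(a : ℤ))) := fun _ =>
    CurveLib.isFinLocFree_of_isInvertible (GenSeesawLib.isInvertible_twistOver n _ _)
  refine ⟨_, p, hp, CMRegLib.isCoh_sigma_fin _ fun _ =>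
    CurveLib.isCoh_of_isInvertible (GenSeesawLib.isInvertible_twistOver n _ _), ?_⟩
  exact TildePerf.isFlatOver_of_isFinLocFree _ (DCohLib.isFinLocFree_sigma k _ hO)

variable {X X' S' : Scheme.{u}} {f : X ⟶ S} {f' : X' ⟶ S'} {g : S' ⟶ S} {g' : X' ⟶ X}

theorem isIso_bc0_of_iso (w : g' ≫ f = f' ≫ g) {M N : X.Modules} (e : M ≅ N) [IsIso (CohBC.bc0 f g f' g' w M)] :
    IsIso (CohBC.bc0 f g f' g' w N) := by
  have h := bc0_natural w e.hom
  haveI : IsIso ((Scheme.Modules.pullback g).map ((Scheme.Modules.pushforward f).map e.hom) ≫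
      CohBC.bc0 f g f' g' w N) := by rw [h]; infer_instance
  exact IsIso.of_isIso_comp_left ((Scheme.Modules.pullback g).map ((Scheme.Modules.pushforward f).map e.hom)) _

/-- An isomorphism is detected on an open covering. -/
theorem isIso_of_pullback_cover {M N : T.Modules} (φ : M ⟶ N)
    (h : ∀ t : T, ∃ W : T.Opens, t ∈ W ∧ IsIso ((Scheme.Modules.pullback W.ι).map φ)) : IsIso φ := by
  refine S12131.isIso_of_bijective_small φ fun t => ?_
  obtain ⟨W, htW, hW⟩ := h t
  refine ⟨W, htW, fun V _ hVW => ?_⟩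
  haveI := hW
  haveI : IsIso ((Scheme.Modules.restrictFunctor W.ι).map φ) :=
    (NatIso.isIso_map_iff (Scheme.Modules.restrictFunctorIsoPullback W.ι) φ).2 hW
  have hb := GenBCLib.bijective_app_of_isIso ((Scheme.Modules.restrictFunctor W.ι).map φ) (W.ι ⁻¹ᵁ V)
  have hV : W.ι ''ᵁ (W.ι ⁻¹ᵁ V) = V := by
    rw [Scheme.Hom.image_preimage_eq_opensRange_inf, Scheme.Opens.opensRange_ι]
    exact inf_eq_right.2 hVW
  change Function.Bijective (φ.app (W.ι ''ᵁ (W.ι ⁻¹ᵁ V))) at hb
  rwa [hV] at hb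

theorem pullTwistPow (φ : T ⟶ S) (F : (CohB1.ProjSpaceOver n S).Modules) (m : ℕ) :
    Nonempty ((Scheme.Modules.pullback (FGA.projMap n φ)).obj (CohB1.tensorMod F (CohB1.tensorPow (Twist.twistOver n S 1) m)) ≅
      CohB1.tensorMod ((Scheme.Modules.pullback (FGA.projMap n φ)).obj F) (CohB1.tensorPow (Twist.twistOver n T 1) m)) :=
  ⟨AmpleLib.pullTensor _ _ _ ≪≫ AmpleLib.tIso (Iso.refl _) (AmpleLib.pullPow _ _ m ≪≫ AmpleLib.powCongr (pullTwist φ 1) m)⟩

theorem exists_isIso_bc0_affine {A : CommRingCat.{u}} [IsNoetherianRing A] [IsNoetherian T] (a : T ⟶ Spec A)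
    {G : (CohB1.ProjSpaceOver n (Spec A)).Modules} (hG : Coh.IsCoh G) :
    ∃ N : ℕ, ∀ m, N ≤ m → IsIso (CohBC.bc0 (CohB1.ProjSpaceOver.toBase n (Spec A)) a (CohB1.ProjSpaceOver.toBase n T)
      (FGA.projMap n a) (isPullback_projMap a).w
      (CohB1.tensorMod G (CohB1.tensorPow (Twist.twistOver n (Spec A) 1) m))) := by
  haveI := GenSeesawLib.lfp_toBase n (Spec A)
  haveI : IsProper (CohB1.ProjSpaceOver.toBase n (Spec A)) := BCLib.isProper_toBase n _
  haveI : IsLocallyNoetherian (CohB1.ProjSpaceOver n (Spec A)) :=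
    LocallyOfFiniteType.isLocallyNoetherian (CohB1.ProjSpaceOver.toBase n (Spec A))
  exact exists_isIso_bc0 (isPullback_projMap a) (hasFlatCover_affine A) (GenSeesawLib.isInvertible_twistOver n _ 1)
    ampleOn_twist (ampleOn_pullTwist a) hG

/-- For high twists the direct image commutes with base change to a Noetherian scheme. -/
theorem exists_isIso_bc0_proj [IsNoetherian S] [IsNoetherian T] (φ : T ⟶ S)
    {F : (CohB1.ProjSpaceOver n S).Modules} (hF : Coh.IsCoh F) :
    ∃ N : ℕ, ∀ m, N ≤ m → IsIso (CohBC.bc0 (CohB1.ProjSpaceOver.toBase n S) φ (CohB1.ProjSpaceOver.toBase n T)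
      (FGA.projMap n φ) (isPullback_projMap φ).w
      (CohB1.tensorMod F (CohB1.tensorPow (Twist.twistOver n S 1) m))) := by
  haveI : IsProper (CohB1.ProjSpaceOver.toBase n S) := BCLib.isProper_toBase n S
  haveI : IsProper (CohB1.ProjSpaceOver.toBase n T) := BCLib.isProper_toBase n T
  haveI : IsLocallyNoetherian (CohB1.ProjSpaceOver n S) :=
    LocallyOfFiniteType.isLocallyNoetherian (CohB1.ProjSpaceOver.toBase n S)
  let M := fun m : ℕ => CohB1.tensorMod F (CohB1.tensorPow (Twist.twistOver n S 1) m)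
  have hM : ∀ m, Coh.IsCoh (M m) := fun m => HilbLib.isCoh_twist (GenSeesawLib.isInvertible_twistOver n S 1) hF m
  have hloc : ∀ t : T, ∃ W : T.Opens, t ∈ W ∧ ∃ N : ℕ, ∀ m, N ≤ m →
      IsIso ((Scheme.Modules.pullback W.ι).map (CohBC.bc0 (CohB1.ProjSpaceOver.toBase n S) φ
        (CohB1.ProjSpaceOver.toBase n T) (FGA.projMap n φ) (isPullback_projMap φ).w (M m))) := by
    intro t
    obtain ⟨W₀, hW₀, htW₀, -⟩ := exists_isAffineOpen_mem_and_subset (x := φ t) (U := ⊤) trivial
    haveI : IsNoetherianRing Γ(S, W₀) := IsLocallyNoetherian.component_noetherian ⟨W₀, hW₀⟩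
    let j := hW₀.fromSpec
    obtain ⟨W, hWa, htW, hW⟩ := exists_isAffineOpen_mem_and_subset (x := t) (U := φ ⁻¹ᵁ W₀) htW₀
    refine ⟨W, htW, ?_⟩
    have hr : Set.range (W.ι ≫ φ) ⊆ Set.range j := by
      rintro _ ⟨w, rfl⟩
      rw [hW₀.range_fromSpec]
      exact hW w.2
    let a : (W : Scheme.{u}) ⟶ Spec Γ(S, W₀) := IsOpenImmersion.lift j (W.ι ≫ φ) hr
    have ha : a ≫ j = W.ι ≫ φ := IsOpenImmersion.lift_fac _ _ _
    haveI : IsAffine (W : Scheme.{u}) := hWa
    haveI : IsLocallyNoetherian (W : Scheme.{u}) := isLocallyNoetherian_of_isOpenImmersion W.ι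
    haveI : IsNoetherian (W : Scheme.{u}) := { }
    obtain ⟨N, hN⟩ := exists_isIso_bc0_affine a (PullbackMod.isCoh_pullback (FGA.projMap n j) F hF)
    refine ⟨N, fun m hm => ?_⟩
    haveI := (hM m).1
    haveI : Coh.IsQCoh ((Scheme.Modules.pullback (FGA.projMap n φ)).obj (M m)) := isQCoh_pullback _ _
    haveI := hN m hm
    obtain ⟨e⟩ := pullTwistPow j F m
    haveI := isIso_bc0_of_iso (isPullback_projMap a).w e.symm
    haveI := isIso_bc0_flat (isPullback_projMap j) (M m)
    have w : (FGA.projMap n a ≫ FGA.projMap n j) ≫ CohB1.ProjSpaceOver.toBase n S =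
        CohB1.ProjSpaceOver.toBase n _ ≫ a ≫ j := by
      rw [projMap_comp]; exact (isPullback_projMap _).w
    have w' : (FGA.projMap n W.ι ≫ FGA.projMap n φ) ≫ CohB1.ProjSpaceOver.toBase n S =
        CohB1.ProjSpaceOver.toBase n _ ≫ W.ι ≫ φ := by
      rw [projMap_comp]; exact (isPullback_projMap _).w
    haveI := isIso_bc0_congr ha (by rw [projMap_comp, projMap_comp, ha]) w w' (M m)
      (isIso_bc0_comp (isPullback_projMap j).w (isPullback_projMap a).w w (M m))
    haveI := isIso_bc0_flat (isPullback_projMap W.ι) ((Scheme.Modules.pullback (FGA.projMap n φ)).obj (M m))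
    exact isIso_map_bc0 (isPullback_projMap φ).w (isPullback_projMap W.ι).w w' (M m)
  choose W htW N hN using hloc
  obtain ⟨s, hs⟩ := CompactSpace.isCompact_univ (X := T) |>.elim_finite_subcover (fun t => (W t : Set T))
    (fun t => (W t).2) fun t _ => Set.mem_iUnion.2 ⟨t, htW t⟩
  refine ⟨s.sup N, fun m hm => isIso_of_pullback_cover _ fun t => ?_⟩
  obtain ⟨i, hi, hti⟩ := Set.mem_iUnion₂.1 (hs (Set.mem_univ t))
  exact ⟨W i, hti, hN i m ((Finset.le_sup hi).trans hm)⟩

end Groth.Agent.FlatStrat
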