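import Groth.Agent.FlatStratLib.Main
import Groth.Agent.IntLib.Push
import Groth.Agent.S0017
import Groth.Agent.S7761
import Groth.Agent.S9710

/-!
# Relatively ample modules: reduction to projective space
-/

set_option autoImplicit false
set_option backward.isDefEq.respectTransparency false
set_option linter.style.haveILetI false
set_option linter.unusedSectionVars false

universe u

open CategoryTheory CategoryTheory.Limits AlgebraicGeometry
open Groth.Agent.PullbackMod

noncomputable section

namespace Groth.Agent.FlatStrat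

variable {X P S : Scheme.{u}}

/-- Twisting after pushing forward along a closed immersion. -/
def pushTwist (i : X ⟶ P) [IsClosedImmersion i] {L : X.Modules} {O : P.Modules} {d : ℕ}
    (e : (Scheme.Modules.pullback i).obj O ≅ CohB1.tensorPow L d) (F : X.Modules) (m : ℕ) :
    CohB1.tensorMod ((Scheme.Modules.pushforward i).obj F) (CohB1.tensorPow O m) ≅
      (Scheme.Modules.pushforward i).obj (CohB1.tensorMod F (CohB1.tensorPow L (d * m))) :=
  DCohLib.projIso i F (CohB1.tensorPow O m) ≪≫ (Scheme.Modules.pushforward i).mapIso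
    (AmpleLib.tIso (Iso.refl F) (AmpleLib.pullPow i O m ≪≫ AmpleLib.powCongr e m ≪≫ AmpleLib.powMul L d m))

/-- Euler characteristics on the fibres after pushing forward along a closed immersion. -/
theorem eul_closed (f : X ⟶ S) (π : P ⟶ S) [IsProper π] (i : X ⟶ P) [IsClosedImmersion i]
    (hf : i ≫ π = f) {F L : X.Modules} (hF : CohB1.IsFP F) (hL : PicF.IsInvertible L) {O : P.Modules} {d : ℕ}
    (e : (Scheme.Modules.pullback i).obj O ≅ CohB1.tensorPow L d) (y : S) (m : ℕ) :
    HilbStratLib.eul π ((Scheme.Modules.pushforward i).obj F) O y m = HilbStratLib.eul f F L y (d * m) := by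
  letI : (f.fiber y).Over (Spec (CommRingCat.of (S.residueField y))) := ⟨f.fiberToSpecResidueField y⟩
  letI : (π.fiber y).Over (Spec (CommRingCat.of (S.residueField y))) := ⟨π.fiberToSpecResidueField y⟩
  haveI : IsProper ((π.fiber y) ↘ Spec (CommRingCat.of (S.residueField y))) :=
    MorphismProperty.pullback_snd (P := @IsProper) _ _ ‹IsProper π›
  let M := CohB1.tensorMod F (CohB1.tensorPow L (d * m))
  haveI : Coh.IsQCoh M := FibreDepth.isQCoh_of_isFP M (HilbStratLib.isFP_twist hF hL _)
  let iy : f.fiber y ⟶ π.fiber y := pullback.lift (f.fiberι y ≫ i) (f.fiberToSpecResidueField y)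
    (by rw [Category.assoc, hf]; exact f.fiber_fac y)
  have hsq : IsPullback (f.fiberι y) iy i (π.fiberι y) := by
    refine (IsPullback.of_bot ?_ (pullback.lift_fst _ _ _).symm
      (IsPullback.of_hasPullback π (S.fromSpecResidueField y)))
    rw [hf]
    have : iy ≫ π.fiberToSpecResidueField y = f.fiberToSpecResidueField y := pullback.lift_snd _ _ _
    exact this.symm ▸ IsPullback.of_hasPullback f (S.fromSpecResidueField y)
  haveI : IsClosedImmersion iy := MorphismProperty.of_isPullback (P := @IsClosedImmersion) hsq inferInstance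
  haveI : Coh.IsQCoh ((Scheme.Modules.pullback (f.fiberι y)).obj M) := isQCoh_pullback _ M
  have hiy : iy ≫ ((π.fiber y) ↘ Spec (CommRingCat.of (S.residueField y))) =
      (f.fiber y) ↘ Spec (CommRingCat.of (S.residueField y)) := pullback.lift_snd _ _ _
  obtain ⟨e₀⟩ := S0017.result i (π.fiberι y) (f.fiberι y) iy hsq M
  show Curv2.euler (S.residueField y) (π.fiber y) _ = Curv2.euler (S.residueField y) (f.fiber y) _
  exact (CurveLib.euler_iso (K := S.residueField y)
    ((Scheme.Modules.pullback (π.fiberι y)).mapIso (pushTwist i e F m) ≪≫ e₀)).trans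
    (IntLib.euler_push (S.residueField y) iy hiy _)

theorem eval_eval₂ (P : MvPolynomial (Fin 1) ℚ) (x : ℚ) :
    MvPolynomial.eval (fun _ => x) P =
      (MvPolynomial.eval₂ Polynomial.C (fun _ => Polynomial.X) P).eval x := by
  induction P using MvPolynomial.induction_on with
  | C a => simp
  | add p q hp hq => simp [hp, hq]
  | mul_X p i hp => simp [hp]

/-- The Euler characteristics on a fibre are polynomial in the twist. -/
theorem exists_poly_eul (f : X ⟶ S) [IsProper f] [LocallyOfFinitePresentation f] {F L : X.Modules}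
    (hF : CohB1.IsFP F) (hL : PicF.IsInvertible L) (y : S) :
    ∃ Q : Polynomial ℚ, ∀ m : ℕ, (HilbStratLib.eul f F L y m : ℚ) = Q.eval (m : ℚ) := by
  obtain ⟨V, D, hyV, hD⟩ := GenBCLib.exists_nhd_fibre_dim_le f y
  haveI := FibreDepth.isQCoh_of_isFP F hF
  haveI : SheafOfModules.IsFinitePresentation (R := X.ringCatSheaf) F := hF
  have hFT : SheafOfModules.IsFiniteType (R := X.ringCatSheaf) F := inferInstance
  letI : (f.fiber y).Over (Spec (CommRingCat.of (S.residueField y))) := ⟨f.fiberToSpecResidueField y⟩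
  haveI : IsProper ((f.fiber y) ↘ Spec (CommRingCat.of (S.residueField y))) :=
    MorphismProperty.pullback_snd (P := @IsProper) _ _ ‹IsProper f›
  haveI := EulerIneqLib.isNoetherian_proper (X := f.fiber y) (S.residueField y)
  obtain ⟨P, -, hP⟩ := HilbLib.snapper (S.residueField y) 1
    (fun _ => (Scheme.Modules.pullback (f.fiberι y)).obj L)
    (fun _ => AmpleLib.isInvertible_pullback (f.fiberι y) hL) _
    (PullbackMod.isCoh_pullback (f.fiberι y) F ⟨inferInstance, hFT⟩) D
    (le_trans (Topology.IsEmbedding.subtypeVal.isInducing.topologicalKrullDim_le) (hD y hyV))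
  refine ⟨MvPolynomial.eval₂ Polynomial.C (fun _ => Polynomial.X) P, fun m => ?_⟩
  obtain ⟨e⟩ := GenBCLib.pull_tensorPows (f.fiberι y) F 1 (fun _ => L) (fun _ => m)
  have h := (congrArg (fun z : ℤ => (z : ℚ)) (CurveLib.euler_iso (K := S.residueField y) e)).trans (hP fun _ => m)
  exact h.trans (eval_eval₂ P (m : ℚ))

/-- An embedding into projective space given by a power of an ample module. -/
theorem exists_embedding [IsAffine S] (f : X ⟶ S) [IsProper f] {L : X.Modules} (hL : RelAmple.IsRelAmple f L) :
    ∃ (n d : ℕ) (i : X ⟶ CohB1.ProjSpaceOver n S), 0 < d ∧ IsClosedImmersion i ∧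
      i ≫ CohB1.ProjSpaceOver.toBase n S = f ∧
      Nonempty ((Scheme.Modules.pullback i).obj (Twist.twistOver n S 1) ≅ CohB1.tensorPow L d) := by
  have ha : CohB1.IsAmple L := by
    have h := hL.2 ⟨⊤, isAffineOpen_top S⟩
    let W := f ⁻¹ᵁ (⊤ : S.Opens)
    let k : X ⟶ (W : Scheme.{u}) := X.topIso.inv
    haveI : IsIso k := inferInstanceAs (IsIso X.topIso.inv)
    haveI : CompactSpace X := QuasiCompact.compactSpace_of_compactSpace f
    have hk : k ≫ W.ι = 𝟙 X := X.toIso_inv_ι
    exact AmpleLib.isAmple_of_iso ((Scheme.Modules.pullback k).mapIso (AmpleLib.restrictIso W.ι L) ≪≫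
      (Scheme.Modules.pullbackComp k W.ι).app L ≪≫
      (Scheme.Modules.pullbackCongr hk).app L ≪≫ (Scheme.Modules.pullbackId X).app L)
      (AmpleLib.isAmple_pullback_of_isInducing k k.isEmbedding.isInducing h)
  obtain ⟨d, hd, h⟩ := S9710.result f L ha
  obtain ⟨n, i, hi, hif, ⟨e⟩⟩ := h d le_rfl
  haveI := hi
  haveI : IsProper (i ≫ CohB1.ProjSpaceOver.toBase n S) := by
    rw [show i ≫ CohB1.ProjSpaceOver.toBase n S = f from hif]; infer_instance
  haveI : IsProper (CohB1.ProjSpaceOver.toBase n S) := BCLib.isProper_toBase n S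
  haveI : IsProper i := IsProper.of_comp i (CohB1.ProjSpaceOver.toBase n S)
  exact ⟨n, d, i, hd, IsClosedImmersion.of_isPreimmersion i (i.isClosedMap.isClosed_range), hif, ⟨e.symm⟩⟩

end Groth.Agent.FlatStrat
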