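import Groth.Agent.FlatStratLib.Criterion
import Groth.Agent.HilbStratLib.ProjFibre
import Groth.Agent.FittStratum.FP
import Groth.Agent.FittTrLib.Bot

/-!
# The flattening stratification by Hilbert polynomials
-/

set_option autoImplicit false
set_option backward.isDefEq.respectTransparency false
set_option linter.style.haveILetI false
set_option linter.unusedSectionVars false

universe u

open CategoryTheory CategoryTheory.Limits AlgebraicGeometry
open Groth.Agent.PullbackMod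

noncomputable section

namespace Groth.Agent.FlatStrat

variable {n : ℕ} {S T : Scheme.{u}}

/-- The Euler characteristic of a twist of the restriction to the fibre at a point. -/
abbrev chiM (F : (CohB1.ProjSpaceOver n S).Modules) (y : S) (m : ℤ) : ℤ :=
  Curv2.euler (S.residueField y) (CohB1.ProjSpace n (S.residueField y))
    (CohB1.tensorMod ((Scheme.Modules.pullback (GenSeesawLib.fibreMap n S y)).obj F)
      (Twist.twistProjSpace n (S.residueField y) m))

open Classical in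
/-- The Hilbert polynomial of the fibre at a point. -/
def hilb (F : (CohB1.ProjSpaceOver n S).Modules) (y : S) : Polynomial ℚ :=
  if h : ∃ P : Polynomial ℚ, ∀ m : ℤ, (chiM F y m : ℚ) = P.eval (m : ℚ) then h.choose else 0

theorem poly_eq_of_eval {P Q : Polynomial ℚ} (m₀ : ℕ) (h : ∀ m : ℕ, m₀ ≤ m → P.eval (m : ℚ) = Q.eval (m : ℚ)) :
    P = Q := by
  refine Polynomial.eq_of_infinite_eval_eq P Q (Set.Infinite.mono (s := (fun m : ℕ => (m : ℚ)) '' Set.Ici m₀) ?_ ?_)
  · rintro _ ⟨m, hm, rfl⟩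
    exact h m hm
  · exact (Set.Ici_infinite m₀).image Nat.cast_injective.injOn

variable {F : (CohB1.ProjSpaceOver n S).Modules}

theorem hilb_spec (hF : Coh.IsCoh F) (y : S) (m : ℤ) : (chiM F y m : ℚ) = (hilb F y).eval (m : ℚ) := by
  haveI := CMRegLib.isNoetherian_projSpace (k := S.residueField y) (n := n)
  have h := HilbStratLib.exists_euler_poly (PullbackMod.isCoh_pullback (GenSeesawLib.fibreMap n S y) F hF)
  rw [hilb, dif_pos h]
  exact h.choose_spec m

theorem hilb_eq (hF : Coh.IsCoh F) (y : S) {P : Polynomial ℚ} (h : ∀ m : ℤ, (chiM F y m : ℚ) = P.eval (m : ℚ)) :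
    hilb F y = P :=
  poly_eq_of_eval 0 fun m _ => by
    have := (hilb_spec hF y (m : ℤ)).symm.trans (h (m : ℤ))
    simpa using this

theorem finite_range_hilb [IsNoetherian S] (hF : Coh.IsCoh F) : (Set.range (hilb F)).Finite := by
  obtain ⟨I, hI, h⟩ := HilbStratLib.exists_finite_hilb hF
  refine hI.subset ?_
  rintro _ ⟨y, rfl⟩
  obtain ⟨P, hP, hPm⟩ := h y
  rwa [hilb_eq hF y hPm]

variable [IsNoetherian S] (hF : Coh.IsCoh F) {m₀ : ℕ}
  (hu : Unif (CohB1.ProjSpaceOver.toBase n S) (Twist.twistOver n S 1) F m₀)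

/-- The rank prescribed by a polynomial. -/
def rP (P : Polynomial ℚ) (m : ℕ) : ℕ := ⌊P.eval (m : ℚ)⌋.toNat

include hF

theorem isCoh_pushM (m : ℕ) : Coh.IsCoh (pushM F m) := by
  haveI : IsProper (CohB1.ProjSpaceOver.toBase n S) := BCLib.isProper_toBase n S
  haveI : IsLocallyNoetherian (CohB1.ProjSpaceOver n S) :=
    LocallyOfFiniteType.isLocallyNoetherian (CohB1.ProjSpaceOver.toBase n S)
  haveI : Coh.IsQCoh (twM F m) := (HilbLib.isCoh_twist (GenSeesawLib.isInvertible_twistOver n S 1) hF m).1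
  exact RpushLib.isCoh_push _ (HilbLib.isCoh_twist (GenSeesawLib.isInvertible_twistOver n S 1) hF m)

include hu

theorem rkM_eq_hilb {m : ℕ} (hm : m₀ ≤ m) (y : S) : (rkM F m y : ℚ) = (hilb F y).eval (m : ℚ) := by
  have h1 := eul_eq_fiberRank_zero hu hm y
  rw [HilbStratLib.eul_eq_euler hF y m] at h1
  have h2 := hilb_spec hF y (m : ℤ)
  rw [show chiM F y (m : ℤ) = (rkM F m y : ℤ) from h1] at h2
  simpa using h2

theorem rkM_eq_rP {m : ℕ} (hm : m₀ ≤ m) (y : S) : rkM F m y = rP (hilb F y) m := by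
  rw [rP, ← rkM_eq_hilb hF hu hm y]
  simp

/-- The direct images at a point. -/
theorem forward_residue {m : ℕ} (hm : m₀ ≤ m) (y : S) :
    FlatMod.IsFinLocFreeOfRank (rkM F m y) ((Scheme.Modules.pullback (S.fromSpecResidueField y)).obj (pushM F m)) := by
  obtain ⟨z⟩ : Nonempty (Spec (S.residueField y)) := inferInstance
  rw [show rkM F m y = rkM F m ((S.fromSpecResidueField y) z) from
    congrArg (rkM F m) (Scheme.fromSpecResidueField_apply y z).symm]
  exact forward_point hF hu (S.fromSpecResidueField y) hm z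

/-- The rank conditions at a point determine the Hilbert polynomial. -/
theorem hilb_eq_iff {J : Set ℕ} (hJ : ∀ m ∈ J, m₀ ≤ m)
    (hsep : ∀ P ∈ Set.range (hilb F), ∀ Q ∈ Set.range (hilb F),
      (∀ m ∈ J, P.eval (m : ℚ) = Q.eval (m : ℚ)) → P = Q) {P : Polynomial ℚ} (hP : P ∈ Set.range (hilb F)) (y : S) :
    hilb F y = P ↔ ∀ m ∈ J, rkM F m y = rP P m := by
  obtain ⟨y₀, rfl⟩ := hP
  refine ⟨fun h m hm => by rw [rkM_eq_rP hF hu (hJ m hm), h], fun h => hsep _ ⟨y, rfl⟩ _ ⟨y₀, rfl⟩ fun m hm => ?_⟩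
  rw [← rkM_eq_hilb hF hu (hJ m hm), ← rkM_eq_hilb hF hu (hJ m hm), h m hm, rkM_eq_rP hF hu (hJ m hm)]

omit hu in
theorem exists_sep (m₀ : ℕ) : ∃ J : Finset ℕ, (∀ m ∈ J, m₀ ≤ m) ∧
    ∀ P ∈ Set.range (hilb F), ∀ Q ∈ Set.range (hilb F),
      (∀ m ∈ J, P.eval (m : ℚ) = Q.eval (m : ℚ)) → P = Q := by
  classical
  let I := (finite_range_hilb hF).toFinset
  have hex : ∀ p : Polynomial ℚ × Polynomial ℚ, ∃ m, m₀ ≤ m ∧ (p.1.eval (m : ℚ) = p.2.eval (m : ℚ) → p.1 = p.2) := by
    intro p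
    by_contra hc
    push Not at hc
    exact (hc m₀ le_rfl).2 (poly_eq_of_eval m₀ fun m hm => (hc m hm).1)
  choose j hj hsep using hex
  refine ⟨(I ×ˢ I).image j, fun m hm => ?_, fun P hP Q hQ h => hsep (P, Q) (h _ ?_)⟩
  · obtain ⟨p, -, rfl⟩ := Finset.mem_image.1 hm
    exact hj p
  · refine Finset.mem_image.2 ⟨(P, Q), Finset.mem_product.2 ⟨?_, ?_⟩, rfl⟩
    · exact (finite_range_hilb hF).mem_toFinset.2 hP
    · exact (finite_range_hilb hF).mem_toFinset.2 hQ

/-- A single stratum, with its universal property. -/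
theorem exists_stratum (P : Polynomial ℚ) (hP : P ∈ Set.range (hilb F)) :
    ∃ (Z : Scheme.{u}) (e : Z ⟶ S), IsImmersion e ∧ (∀ y : S, y ∈ Set.range e ↔ hilb F y = P) ∧
      ∀ (T : Scheme.{u}) (φ : T ⟶ S), (∃ g : T ⟶ Z, g ≫ e = φ) ↔
        ∀ m, m₀ ≤ m → FlatMod.IsFinLocFreeOfRank (rP P m) ((Scheme.Modules.pullback φ).obj (pushM F m)) := by
  classical
  obtain ⟨J, hJ, hsep⟩ := exists_sep hF m₀
  haveI : ∀ m, Coh.IsQCoh (pushM F m) := fun m => (isCoh_pushM hF m).1
  have hft : ∀ m, CohB1.IsFT (pushM F m) := fun m => (isCoh_pushM hF m).2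
  let Fm := fun m => Fitt.sheafIdeal (pushM F m)
  let Jd : ℕ → S.IdealSheafData := fun m => if rP P m = 0 then ⊥ else Fm m (rP P m - 1)
  let J' : S.IdealSheafData := ⨆ (m : ℕ) (_ : m₀ ≤ m), Jd m
  let U : S.Opens := J.inf fun m => ⟨_, (Fm m (rP P m)).support.isClosed.isOpen_compl⟩
  have hU : ∀ y : S, y ∈ U ↔ ∀ m ∈ J, y ∉ (Fm m (rP P m)).support := by
    intro y
    have key : ∀ J₁ : Finset ℕ,
        y ∈ (J₁.inf fun m => (⟨_, (Fm m (rP P m)).support.isClosed.isOpen_compl⟩ : S.Opens)) ↔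
          ∀ m ∈ J₁, y ∉ (Fm m (rP P m)).support := by
      intro J₁
      induction J₁ using Finset.induction_on with
      | empty => simp
      | insert a s ha ih =>
        rw [Finset.inf_insert, Finset.forall_mem_insert, ← ih]
        exact Iff.rfl
    exact key J
  let e := pullback.fst J'.subschemeι U.ι ≫ J'.subschemeι
  have hfac : ∀ (T : Scheme.{u}) (φ : T ⟶ S),
      (∃ g : T ⟶ pullback J'.subschemeι U.ι, g ≫ e = φ) ↔ Set.range φ ⊆ U ∧ J' ≤ φ.ker := by
    intro T φ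
    constructor
    · rintro ⟨g, rfl⟩
      refine ⟨?_, ?_⟩
      · rintro _ ⟨t, rfl⟩
        simp only [e]
        rw [pullback.condition]
        simp only [Scheme.Hom.comp_apply]
        exact ((pullback.snd J'.subschemeι U.ι) (g t)).2
      · rw [← Category.assoc]
        exact J'.ker_subschemeι.symm.le.trans (Scheme.Hom.le_ker_comp _ _)
    · rintro ⟨h1, h2⟩
      have hr : Set.range φ ⊆ Set.range U.ι := by rwa [Scheme.Opens.range_ι]
      refine ⟨pullback.lift (IsClosedImmersion.lift J'.subschemeι φ (by rwa [Scheme.IdealSheafData.ker_subschemeι]))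
        (IsOpenImmersion.lift U.ι φ hr) (by rw [IsClosedImmersion.lift_fac, IsOpenImmersion.lift_fac]), ?_⟩
      rw [pullback.lift_fst_assoc, IsClosedImmersion.lift_fac]
  have hrk : ∀ {T : Scheme.{u}} (φ : T ⟶ S) (m : ℕ),
      FlatMod.IsFinLocFreeOfRank (rP P m) ((Scheme.Modules.pullback φ).obj (pushM F m)) ↔
        Set.range φ ⊆ ((Fm m (rP P m)).support : Set S)ᶜ ∧ Jd m ≤ φ.ker := by
    intro T φ m
    rw [FittStratum.isFinLocFreeOfRank_iff (pushM F m) (hft m) φ (rP P m)]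
    refine and_congr_right fun _ => ?_
    by_cases hr : rP P m = 0
    · simp [Jd, hr]
    · simp [Jd, hr, Fm]
  have hpoint : ∀ y : S, (∀ m ∈ J,
      FlatMod.IsFinLocFreeOfRank (rP P m) ((Scheme.Modules.pullback (S.fromSpecResidueField y)).obj (pushM F m))) ↔
      hilb F y = P := by
    intro y
    rw [hilb_eq_iff hF hu (J := (J : Set ℕ)) hJ hsep hP y]
    refine forall₂_congr fun m hm => ?_
    obtain ⟨z⟩ : Nonempty (Spec (S.residueField y)) := inferInstance
    have hz : S.fromSpecResidueField y z = y := Scheme.fromSpecResidueField_apply y z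
    have h2 := forward_residue hF hu (hJ m hm) y
    refine ⟨fun h => ?_, fun h => h ▸ h2⟩
    haveI := isQCoh_pullback (S.fromSpecResidueField y) (pushM F m)
    have hfp := (isQCoh_and_isFP_of_isFinLocFree _
      (forward hF hu (S.fromSpecResidueField y) (isFlatOver_specField _ _) (hJ m hm)).1).2
    exact freeAt_unique _ ((isFinLocFreeOfRank_iff_freeAt _ hfp _).1 h2 z)
      ((isFinLocFreeOfRank_iff_freeAt _ hfp _).1 h z)
  have hmem : ∀ (T : Scheme.{u}) (φ : T ⟶ S),
      (∀ m ∈ J, Set.range φ ⊆ ((Fm m (rP P m)).support : Set S)ᶜ ∧ Jd m ≤ φ.ker) → ∀ t, hilb F (φ t) = P := by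
    intro T φ h t
    let ψ := T.fromSpecResidueField t ≫ φ
    obtain ⟨z⟩ : Nonempty (Spec (T.residueField t)) := inferInstance
    have hz : ψ z = φ t := congrArg φ (Scheme.fromSpecResidueField_apply t z)
    refine (hilb_eq_iff hF hu (J := (J : Set ℕ)) hJ hsep hP _).2 fun m hm => ?_
    have h2 := forward_point hF hu ψ (hJ m hm) z
    have h3 : FlatMod.IsFinLocFreeOfRank (rP P m) ((Scheme.Modules.pullback ψ).obj (pushM F m)) := by
      refine (hrk ψ m).2 ⟨?_, (h m hm).2.trans (Scheme.Hom.le_ker_comp _ _)⟩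
      rintro _ ⟨w, rfl⟩
      exact (h m hm).1 ⟨_, rfl⟩
    haveI := isQCoh_pullback ψ (pushM F m)
    have hfp := (isQCoh_and_isFP_of_isFinLocFree _
      (forward hF hu ψ (isFlatOver_specField _ _) (hJ m hm)).1).2
    rw [← hz]
    exact freeAt_unique _ ((isFinLocFreeOfRank_iff_freeAt _ hfp _).1 h2 z)
      ((isFinLocFreeOfRank_iff_freeAt _ hfp _).1 h3 z)
  have huniv : ∀ (T : Scheme.{u}) (φ : T ⟶ S), (∃ g : T ⟶ pullback J'.subschemeι U.ι, g ≫ e = φ) ↔
      ∀ m, m₀ ≤ m → FlatMod.IsFinLocFreeOfRank (rP P m) ((Scheme.Modules.pullback φ).obj (pushM F m)) := by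
    intro T φ
    rw [hfac]
    constructor
    · rintro ⟨h1, h2⟩
      have hle : ∀ m, m₀ ≤ m → Jd m ≤ φ.ker := fun m hm => le_trans (le_iSup₂ (f := fun m (_ : m₀ ≤ m) => Jd m) m hm) h2
      have hJm : ∀ m ∈ J, Set.range φ ⊆ ((Fm m (rP P m)).support : Set S)ᶜ ∧ Jd m ≤ φ.ker := fun m hm =>
        ⟨fun y hy => (hU y).1 (h1 hy) m hm, hle m (hJ m hm)⟩
      intro m hm
      refine (hrk φ m).2 ⟨?_, hle m hm⟩
      rintro _ ⟨t, rfl⟩
      obtain ⟨z⟩ : Nonempty (Spec (S.residueField (φ t))) := inferInstance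
      have hz : S.fromSpecResidueField (φ t) z = φ t := Scheme.fromSpecResidueField_apply _ z
      have h3 := forward_residue hF hu hm (φ t)
      rw [rkM_eq_rP hF hu hm, hmem T φ hJm t] at h3
      exact ((hrk _ m).1 h3).1 ⟨z, hz⟩
    · intro h
      exact ⟨fun y hy => (hU y).2 fun m hm => ((hrk φ m).1 (h m (hJ m hm))).1 hy,
        iSup₂_le fun m hm => ((hrk φ m).1 (h m hm)).2⟩
  refine ⟨_, e, inferInstance, fun y => ⟨?_, fun h => ?_⟩, huniv⟩
  · rintro ⟨z, rfl⟩
    exact hmem _ e (fun m hm => (hrk e m).1 ((huniv _ e).1 ⟨𝟙 _, Category.id_comp e⟩ m (hJ m hm))) z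
  · obtain ⟨z⟩ : Nonempty (Spec (S.residueField y)) := inferInstance
    have hz : S.fromSpecResidueField y z = y := Scheme.fromSpecResidueField_apply y z
    obtain ⟨g, hg⟩ := (huniv _ (S.fromSpecResidueField y)).2 fun m hm => by
      have h2 := forward_residue hF hu hm y
      rwa [rkM_eq_rP hF hu hm, h] at h2
    exact ⟨g z, by rw [← Scheme.Hom.comp_apply, hg, hz]⟩

/-- A morphism landing in the strata is flat, and conversely. -/
theorem flat_iff_lift {ι : Type} [Finite ι] (St : ι → Scheme.{u}) (e : ∀ i, St i ⟶ S) (P : ι → Polynomial ℚ)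
    (hPinj : Function.Injective P) (hPsurj : ∀ y : S, ∃ i, hilb F y = P i)
    (huniv : ∀ i (T : Scheme.{u}) (φ : T ⟶ S), (∃ g : T ⟶ St i, g ≫ e i = φ) ↔
      ∀ m, m₀ ≤ m → FlatMod.IsFinLocFreeOfRank (rP (P i) m) ((Scheme.Modules.pullback φ).obj (pushM F m)))
    [IsLocallyNoetherian T] (φ : T ⟶ S) :
    FlatMod.IsFlatOver (CohB1.ProjSpaceOver.toBase n T) ((Scheme.Modules.pullback (FGA.projMap n φ)).obj F) ↔
      ∃ g : T ⟶ ∐ St, g ≫ Limits.Sigma.desc e = φ := by
  haveI : ∀ m, Coh.IsQCoh (pushM F m) := fun m => (isCoh_pushM hF m).1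
  constructor
  · intro hfl
    obtain ⟨J, hJ, hsep⟩ := exists_sep hF m₀
    have hlc : IsLocallyConstant fun t : T => hilb F (φ t) := by
      refine (IsLocallyConstant.iff_eventually_eq _).2 fun t => ?_
      have h1 : ∀ᶠ t' in nhds t, ∀ m ∈ J, rkM F m (φ t') = rkM F m (φ t) :=
        (Filter.eventually_all_finset J).2 fun m hm =>
          (IsLocallyConstant.iff_eventually_eq _).1 (isLocallyConstant_rank hF hu φ hfl (hJ m hm)) t
      refine h1.mono fun t' ht' => (hilb_eq_iff hF hu (J := (J : Set ℕ)) hJ hsep ⟨_, rfl⟩ _).2 fun m hm => ?_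
      rw [ht' m hm, rkM_eq_rP hF hu (hJ m hm)]
    let W : ι → T.Opens := fun i => ⟨_, hlc.isOpen_fiber (P i)⟩
    have hW : TopologicalSpace.IsOpenCover W := TopologicalSpace.IsOpenCover.mk
      (eq_top_iff.2 fun t _ => TopologicalSpace.Opens.mem_iSup.2 (hPsurj (φ t)))
    have hg : ∀ i, ∃ g : (W i : Scheme.{u}) ⟶ St i, g ≫ e i = (W i).ι ≫ φ := by
      intro i
      refine (huniv i _ _).2 fun m hm => ?_
      obtain ⟨h1, h2⟩ := forward hF hu φ hfl hm
      haveI := (isQCoh_and_isFP_of_isFinLocFree _ h1).1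
      have h3 := isFinLocFree_pullback (W i).ι _ h1
      have e3 := (Scheme.Modules.pullbackComp (W i).ι φ).app (pushM F m)
      haveI := (isQCoh_and_isFP_of_isFinLocFree _ (DCohLib.isFinLocFree_iso e3 h3)).1
      refine (isFinLocFreeOfRank_iff_freeAt _
        (isQCoh_and_isFP_of_isFinLocFree _ (DCohLib.isFinLocFree_iso e3 h3)).2 _).2 fun w => ?_
      refine GenFreeLocus.freeAt_of_iso e3 ?_
      have h4 := freeAt_pullback _ (W i).ι w (h2 ((W i).ι w))
      rwa [rkM_eq_rP hF hu hm, show hilb F (φ ((W i).ι w)) = P i from w.2] at h4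
    choose gW hgW using hg
    let 𝒰 := T.openCoverOfIsOpenCover W hW
    have hcompat : ∀ x y, pullback.fst (𝒰.f x) (𝒰.f y) ≫ gW x ≫ Sigma.ι St x =
        pullback.snd _ _ ≫ gW y ≫ Sigma.ι St y := by
      intro x y
      by_cases hxy : x = y
      · subst hxy
        rw [fst_eq_snd_of_mono_eq]
      · haveI : IsEmpty (pullback (𝒰.f x) (𝒰.f y) : Scheme.{u}) := ⟨fun z => hxy (hPinj (by
          have hx : hilb F (φ (𝒰.f x (pullback.fst (𝒰.f x) (𝒰.f y) z))) = P x :=
            ((pullback.fst (𝒰.f x) (𝒰.f y)) z).2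
          rw [← hx, ← Scheme.Hom.comp_apply (pullback.fst (𝒰.f x) (𝒰.f y)), pullback.condition]
          exact ((pullback.snd (𝒰.f x) (𝒰.f y)) z).2))⟩
        exact isInitialOfIsEmpty.hom_ext _ _
    refine ⟨Scheme.Cover.glueMorphisms 𝒰 (fun i => gW i ≫ Sigma.ι St i) hcompat, ?_⟩
    refine 𝒰.hom_ext _ _ fun i => ?_
    rw [Scheme.Cover.ι_glueMorphisms_assoc, Category.assoc, Sigma.ι_desc]
    exact hgW i
  · rintro ⟨g, rfl⟩
    refine flat_of hF (g ≫ Sigma.desc e) m₀ fun m hm => ?_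
    haveI : Coh.IsQCoh ((Scheme.Modules.pullback (g ≫ Sigma.desc e)).obj (pushM F m)) := isQCoh_pullback _ _
    refine (isFinLocFree_iff_freeAt _ (isFP_pullback _ _ (QCohLib.isFP_of_isCoh _ (isCoh_pushM hF m)))).2 fun t => ?_
    obtain ⟨i, z, hz⟩ : ∃ (i : ι) (z : St i), Sigma.ι St i z = g t := (sigmaOpenCover St).exists_eq (g t)
    let W : T.Opens := g ⁻¹ᵁ (Sigma.ι St i).opensRange
    have htW : t ∈ W := ⟨z, hz⟩
    let gi : (W : Scheme.{u}) ⟶ St i := IsOpenImmersion.lift (Sigma.ι St i) (W.ι ≫ g) (by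
      rintro _ ⟨w, rfl⟩
      exact w.2)
    have hgi : gi ≫ e i = W.ι ≫ g ≫ Sigma.desc e := by
      rw [← reassoc_of% (IsOpenImmersion.lift_fac (Sigma.ι St i) (W.ι ≫ g) (by rintro _ ⟨w, rfl⟩; exact w.2)),
        Sigma.ι_desc]
    have h := (huniv i _ _).1 ⟨gi, hgi⟩ m hm
    haveI := isQCoh_pullback (W.ι ≫ g ≫ Sigma.desc e) (pushM F m)
    have h2 := (isFinLocFreeOfRank_iff_freeAt _
      (isFP_pullback _ _ (QCohLib.isFP_of_isCoh _ (isCoh_pushM hF m))) _).1 h ⟨t, htW⟩
    exact ⟨_, GenFreeLocus.freeAt_desc W.ι _ (FittStratum.isFT_pullback (pushM F m) (isCoh_pushM hF m).2 _) _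
      (GenFreeLocus.freeAt_of_iso ((Scheme.Modules.pullbackComp W.ι _).app (pushM F m)).symm h2)⟩

/-- The points of a closure of a stratum have eventually bigger Hilbert polynomial. -/
theorem eval_le_of_mem_closure {P : Polynomial ℚ} {y : S} (hy : y ∈ closure {x | hilb F x = P}) {m : ℕ}
    (hm : m₀ ≤ m) : P.eval (m : ℚ) ≤ (hilb F y).eval (m : ℚ) := by
  haveI := (isCoh_pushM hF m).1
  have hft := (isCoh_pushM hF m).2
  rw [← rkM_eq_hilb hF hu hm]
  obtain ⟨x₀, hx₀⟩ : {x | hilb F x = P}.Nonempty := closure_nonempty_iff.1 ⟨y, hy⟩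
  have hx₀' := rkM_eq_hilb hF hu hm x₀
  rw [show hilb F x₀ = P from hx₀] at hx₀'
  rw [← hx₀']
  by_contra hlt
  rw [not_le, Nat.cast_lt] at hlt
  let k := rkM F m y
  have hpt : ∀ x : S, Spec (S.residueField x) → x ∈ ((Fitt.sheafIdeal (pushM F m) k).support : Set S) ∨
      rkM F m x ≤ k := by
    intro x z
    have hz : S.fromSpecResidueField x z = x := Scheme.fromSpecResidueField_apply x z
    have h := forward_residue hF hu hm x
    by_cases hk : rkM F m x ≤ k
    · exact Or.inr hk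
    · left
      have h3 := ((FittStratum.isFinLocFreeOfRank_iff (pushM F m) hft _ _).1 h).2 (by omega)
      by_contra hns
      have h4 : x ∉ ((Fitt.sheafIdeal (pushM F m) (rkM F m x - 1)).support : Set S) := fun hs => hns
        (Scheme.IdealSheafData.support_antitone (Scheme.IdealSheafData.ofIdeals_mono fun V =>
          haveI := QCohLib.finite_sections (pushM F m) hft V.2
          FittTrLib.ideal_mono_index (by omega)) hs)
      refine h4 ?_
      have h5 := Scheme.IdealSheafData.support_antitone h3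
      exact h5 (Scheme.Hom.range_subset_ker_support _ ⟨z, hz⟩)
  obtain ⟨zy⟩ : Nonempty (Spec (S.residueField y)) := inferInstance
  have hys : y ∉ ((Fitt.sheafIdeal (pushM F m) k).support : Set S) := by
    have hz : S.fromSpecResidueField y zy = y := Scheme.fromSpecResidueField_apply y zy
    have h := forward_residue hF hu hm y
    exact ((FittStratum.isFinLocFreeOfRank_iff (pushM F m) hft _ _).1 h).1 ⟨zy, hz⟩
  have hsub : {x | hilb F x = P} ⊆ ((Fitt.sheafIdeal (pushM F m) k).support : Set S) := by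
    intro x hx
    obtain ⟨z⟩ : Nonempty (Spec (S.residueField x)) := inferInstance
    refine (hpt x z).resolve_right fun hle => ?_
    have := rkM_eq_hilb hF hu hm x
    rw [show hilb F x = P from hx, ← hx₀', Nat.cast_inj] at this
    omega
  exact hys (closure_minimal hsub (Fitt.sheafIdeal (pushM F m) k).support.isClosed hy)

end Groth.Agent.FlatStrat
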