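import Groth.Agent.FlatStratLib.General
import Groth.Agent.FlatStratLib.Closed
import Groth.Agent.FactorGlue.Main
import Groth.Agent.HilbObsLib.Ideal

/-!
# The flattening stratum of a Hilbert polynomial
-/

set_option autoImplicit false
set_option backward.isDefEq.respectTransparency false
set_option linter.style.haveILetI false
set_option linter.unusedSectionVars false

universe u

open CategoryTheory CategoryTheory.Limits AlgebraicGeometry Filter
open Groth.Agent Groth.Agent.PullbackMod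

noncomputable section

namespace Groth.Agent.FlatStrat

variable {X S : Scheme.{u}}

/-- Flatness over the base does not depend on the choice of fibre product. -/
theorem isFlatOver_sq {XT XT' T : Scheme.{u}} {f : X ⟶ S} {g : T ⟶ S} {a : XT ⟶ X} {b : XT ⟶ T} {a' : XT' ⟶ X}
    {b' : XT' ⟶ T} (h : IsPullback a b f g) (h' : IsPullback a' b' f g) {F : X.Modules} [Coh.IsQCoh F]
    (hfl : FlatMod.IsFlatOver b ((Scheme.Modules.pullback a).obj F)) :
    FlatMod.IsFlatOver b' ((Scheme.Modules.pullback a').obj F) := by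
  haveI : Coh.IsQCoh ((Scheme.Modules.pullback a).obj F) := isQCoh_pullback _ F
  let e := h'.isoIsPullback _ _ h
  exact DCohMore.isFlatOver_of_iso _ ((Scheme.Modules.pullbackComp e.hom a).app F ≪≫
    (Scheme.Modules.pullbackCongr (h'.isoIsPullback_hom_fst _ _ h)).app F)
    (isFlatOver_baseChange (IsPullback.of_horiz_isIso ⟨by
      rw [Category.comp_id]; exact h'.isoIsPullback_hom_snd _ _ h⟩) hfl)

/-- Flatness of the pulled back module with the given Hilbert polynomial. -/
def FlatHilb (f : X ⟶ S) (F L : X.Modules) (Φ : Polynomial ℚ) {T : Scheme.{u}} (g : T ⟶ S) : Prop :=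
  FlatMod.IsFlatOver (pullback.snd f g) ((Scheme.Modules.pullback (pullback.fst f g)).obj F) ∧
    ∀ t : T, ∀ n : ℕ, (HilbStratLib.eul f F L (g t) n : ℚ) = Φ.eval (n : ℚ)

variable {f : X ⟶ S} {F L : X.Modules} {Φ : Polynomial ℚ}

theorem flatHilb_comp [Coh.IsQCoh F] {T' T : Scheme.{u}} (a : T' ⟶ T) (g : T ⟶ S) (h : FlatHilb f F L Φ g) :
    FlatHilb f F L Φ (a ≫ g) := by
  obtain ⟨hfl, hP⟩ := h
  refine ⟨?_, fun t n => by rw [Scheme.Hom.comp_apply]; exact hP _ n⟩
  haveI : Coh.IsQCoh ((Scheme.Modules.pullback (pullback.fst f g)).obj F) := isQCoh_pullback _ F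
  have h2 := IsPullback.of_hasPullback (pullback.snd f g) a
  exact isFlatOver_sq (h2.paste_horiz (IsPullback.of_hasPullback f g)) (IsPullback.of_hasPullback f (a ≫ g))
    (DCohMore.isFlatOver_of_iso _ ((Scheme.Modules.pullbackComp _ _).app F) (isFlatOver_baseChange h2 hfl))

theorem flatHilb_local [Coh.IsQCoh F] {T : Scheme.{u}} (g : T ⟶ S)
    (h : ∀ t : T, ∃ W : T.Opens, t ∈ W ∧ FlatHilb f F L Φ (W.ι ≫ g)) : FlatHilb f F L Φ g := by
  refine ⟨fun x => ?_, fun t n => ?_⟩
  · obtain ⟨W, hW, hfl, -⟩ := h (pullback.snd f g x)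
    haveI : Coh.IsQCoh ((Scheme.Modules.pullback (pullback.fst f g)).obj F) := isQCoh_pullback _ F
    have h2 := IsPullback.of_hasPullback (pullback.snd f g) W.ι
    have h3 := DCohMore.isFlatOver_of_iso _ ((Scheme.Modules.pullbackComp _ _).app F).symm
      (isFlatOver_sq (IsPullback.of_hasPullback f (W.ι ≫ g)) (h2.paste_horiz (IsPullback.of_hasPullback f g)) hfl)
    obtain ⟨z, hz, -⟩ := Scheme.Pullback.exists_preimage_pullback (f := pullback.snd f g) (g := W.ι) x (⟨_, hW⟩ : W) rfl
    rw [← hz]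
    exact isFlatOverAt_of_baseChange h2 _ z
      (RingHom.Flat.of_bijective (ConcreteCategory.bijective_of_isIso (W.ι.stalkMap _))) (h3 z)
  · obtain ⟨W, hW, -, hP⟩ := h t
    exact hP ⟨t, hW⟩ n

/-- The stratum over an affine base. -/
theorem exists_stratum_affine [IsAffine S] (f : X ⟶ S) [IsProper f] [LocallyOfFinitePresentation f] {L : X.Modules}
    (hL : RelAmple.IsRelAmple f L) {F : X.Modules} (hF : CohB1.IsFP F) (Φ : Polynomial ℚ) :
    ∃ (W : Scheme.{u}) (e : W ⟶ S), IsImmersion e ∧ QuasiCompact e ∧ LocallyOfFinitePresentation e ∧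
      ∀ (T : Scheme.{u}) (v : T ⟶ S), (∃ h : T ⟶ W, h ≫ e = v) ↔ FlatHilb f F L Φ v := by
  obtain ⟨n, d, i, hd, hi, hf, ⟨e⟩⟩ := exists_embedding f hL
  haveI := hi
  haveI : IsProper (CohB1.ProjSpaceOver.toBase n S) := BCLib.isProper_toBase n S
  haveI := GenSeesawLib.lfp_toBase n S
  haveI : LocallyOfFinitePresentation (i ≫ CohB1.ProjSpaceOver.toBase n S) := by rw [hf]; infer_instance
  haveI := lfp_of_comp i (CohB1.ProjSpaceOver.toBase n S)
  haveI := FibreDepth.isQCoh_of_isFP F hF
  have hG : CohB1.IsFP ((Scheme.Modules.pushforward i).obj F) := (FinLocFreeLib.isFP_push_iff i F).1 hF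
  let a := S.isoSpec
  obtain ⟨S₀, g, G₀, hS₀, hlfp₀, hG₀, ⟨eG⟩⟩ := exists_noetherian_module (A := Γ(S, ⊤)) (n := n)
    (PullbackMod.isFP_pullback (FGA.projMap n a.inv) _ hG)
  haveI := hS₀
  haveI := hG₀.1
  have hLi := AmpleLib.isInvertible_of_isRelAmple hL
  haveI : IsProper (CohB1.ProjSpaceOver.toBase n S₀) := BCLib.isProper_toBase n _
  let g₁ := a.hom ≫ g
  let eG' : (Scheme.Modules.pullback (FGA.projMap n g₁)).obj G₀ ≅ (Scheme.Modules.pushforward i).obj F :=
    (Scheme.Modules.pullbackCongr (projMap_comp a.hom g).symm).app G₀ ≪≫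
      ((Scheme.Modules.pullbackComp _ _).app G₀).symm ≪≫ (Scheme.Modules.pullback _).mapIso eG ≪≫
      (Scheme.Modules.pullbackComp _ _).app _ ≪≫
      (Scheme.Modules.pullbackCongr (show FGA.projMap n a.hom ≫ FGA.projMap n a.inv = 𝟙 _ by
        rw [projMap_comp, a.hom_inv_id]
        apply pullback.hom_ext
        · rw [projMap_fst, Category.id_comp]
        · rw [projMap_snd, Category.comp_id, Category.id_comp])).app _ ≪≫
      (Scheme.Modules.pullbackId _).app _
  have key : ∀ (s : S) (m : ℕ), (HilbStratLib.eul f F L s (d * m) : ℚ) = (hilb G₀ (g₁ s)).eval (m : ℚ) := by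
    intro s m
    rw [← eul_closed f (CohB1.ProjSpaceOver.toBase n S) i hf hF hLi e s m,
      eul_noetherian_module g₁ hG₀ eG' s, HilbStratLib.eul_eq_euler hG₀]
    exact_mod_cast hilb_spec hG₀ (g₁ s) (m : ℤ)
  let Φ' : Polynomial ℚ := Φ.comp (Polynomial.C (d : ℚ) * Polynomial.X)
  obtain ⟨Z, e₀, hI, hqc, hfp, huniv⟩ := exists_stratum_general hG₀ hlfp₀ Φ'
  haveI := hI; haveI := hqc; haveI := hfp
  refine ⟨pullback e₀ g₁, pullback.snd e₀ g₁, inferInstance, inferInstance, inferInstance, fun T v => ?_⟩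
  have hfac : (∃ h : T ⟶ pullback e₀ g₁, h ≫ pullback.snd e₀ g₁ = v) ↔ ∃ h : T ⟶ Z, h ≫ e₀ = v ≫ g₁ := by
    constructor
    · rintro ⟨h, rfl⟩
      exact ⟨h ≫ pullback.fst e₀ g₁, by rw [Category.assoc, Category.assoc, pullback.condition]⟩
    · rintro ⟨h, hh⟩
      exact ⟨pullback.lift h v hh, pullback.lift_snd _ _ _⟩
  rw [hfac, huniv T (v ≫ g₁)]
  refine and_congr ?_ (forall_congr' fun t => ?_)
  · let iT : pullback f v ⟶ CohB1.ProjSpaceOver n T := (isPullback_projMap (n := n) v).lift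
      (pullback.fst f v ≫ i) (pullback.snd f v) (by rw [Category.assoc, hf]; exact pullback.condition)
    have hiT : iT ≫ CohB1.ProjSpaceOver.toBase n T = pullback.snd f v := (isPullback_projMap v).lift_snd _ _ _
    have hsq : IsPullback (pullback.fst f v) iT i (FGA.projMap n v) := by
      refine IsPullback.of_bot ?_ ((isPullback_projMap v).lift_fst _ _ _).symm (isPullback_projMap v)
      rw [hf, hiT]
      exact IsPullback.of_hasPullback f v
    haveI : IsClosedImmersion iT := MorphismProperty.of_isPullback (P := @IsClosedImmersion) hsq inferInstance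
    obtain ⟨e₁⟩ := S0017.result i (FGA.projMap n v) (pullback.fst f v) iT hsq F
    let E : (Scheme.Modules.pullback (FGA.projMap n (v ≫ g₁))).obj G₀ ≅
        (Scheme.Modules.pushforward iT).obj ((Scheme.Modules.pullback (pullback.fst f v)).obj F) :=
      (Scheme.Modules.pullbackCongr (projMap_comp v g₁).symm).app G₀ ≪≫
        ((Scheme.Modules.pullbackComp _ _).app G₀).symm ≪≫ (Scheme.Modules.pullback _).mapIso eG' ≪≫ e₁
    rw [← hiT, ← HilbObsLib.isFlatOver_pushforward_iff]
    exact ⟨DCohMore.isFlatOver_of_iso _ E, DCohMore.isFlatOver_of_iso _ E.symm⟩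
  · obtain ⟨Q, hQ⟩ := exists_poly_eul f hF hLi (v t)
    rw [Scheme.Hom.comp_apply]
    have hev : ∀ m : ℕ, Φ'.eval (m : ℚ) = Φ.eval ((d * m : ℕ) : ℚ) := fun m => by simp [Φ']
    constructor
    · intro h k
      rw [hQ k]
      have hinf : Set.Infinite ((fun m : ℕ => ((d * m : ℕ) : ℚ)) '' Set.univ) :=
        Set.infinite_univ.image fun x _ y _ hxy => Nat.eq_of_mul_eq_mul_left hd (Nat.cast_injective hxy)
      have hQΦ : Q = Φ := by
        refine Polynomial.eq_of_infinite_eval_eq Q Φ (hinf.mono ?_)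
        rintro _ ⟨m, -, rfl⟩
        show Q.eval _ = Φ.eval _
        rw [← hQ, key, h, hev]
      rw [hQΦ]
    · intro h
      exact poly_eq_of_eval 0 fun m _ => by rw [← key (v t) m, hev, h (d * m)]

/-- The flattening stratum of a polynomial. -/
theorem exists_flattening_stratum (f : X ⟶ S) [IsProper f] [LocallyOfFinitePresentation f] {L : X.Modules}
    (hL : RelAmple.IsRelAmple f L) {F : X.Modules} (hF : CohB1.IsFP F) (Φ : Polynomial ℚ) :
    ∃ (W : Scheme.{u}) (i : W ⟶ S), IsImmersion i ∧ QuasiCompact i ∧ LocallyOfFinitePresentation i ∧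
      (Set.range i = {s : S | ∀ n : ℕ, (HilbStratLib.eul f F L s n : ℚ) = Φ.eval (n : ℚ)}) ∧
      ∀ (T : Scheme.{u}) (g : T ⟶ S), (∃ h : T ⟶ W, h ≫ i = g) ↔ FlatHilb f F L Φ g := by
  haveI := FibreDepth.isQCoh_of_isFP F hF
  have hloc : ∀ V : S.affineOpens, ∃ (W : Scheme.{u}) (e : W ⟶ (V.1 : Scheme.{u})), IsImmersion e ∧ QuasiCompact e ∧
      LocallyOfFinitePresentation e ∧
        ∀ (T : Scheme.{u}) (v : T ⟶ (V.1 : Scheme.{u})),
          (∃ h : T ⟶ W, h ≫ e = v) ↔ FlatHilb f F L Φ (v ≫ V.1.ι) := by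
    intro V
    haveI : IsAffine (V.1 : Scheme.{u}) := V.2
    haveI : IsProper (pullback.snd f V.1.ι) := MorphismProperty.pullback_snd (P := @IsProper) _ _ inferInstance
    haveI : LocallyOfFinitePresentation (pullback.snd f V.1.ι) :=
      MorphismProperty.pullback_snd (P := @LocallyOfFinitePresentation) _ _ inferInstance
    obtain ⟨W, e, h1, h2, h3, hu⟩ := exists_stratum_affine (pullback.snd f V.1.ι)
      (AmpleLib.isRelAmple_baseChange f V.1.ι hL) (PullbackMod.isFP_pullback (pullback.fst f V.1.ι) F hF) Φ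
    refine ⟨W, e, h1, h2, h3, fun T v => ?_⟩
    rw [hu T v]
    have hsq := (IsPullback.of_hasPullback (pullback.snd f V.1.ι) v).paste_horiz (IsPullback.of_hasPullback f V.1.ι)
    refine and_congr ⟨fun h => isFlatOver_sq hsq (IsPullback.of_hasPullback _ _)
        (DCohMore.isFlatOver_of_iso _ ((Scheme.Modules.pullbackComp _ _).app F) h),
      fun h => DCohMore.isFlatOver_of_iso _ ((Scheme.Modules.pullbackComp _ _).app F).symm
        (isFlatOver_sq (IsPullback.of_hasPullback _ _) hsq h)⟩ (forall_congr' fun t => forall_congr' fun k => ?_)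
    rw [HilbStratLib.eul_baseChange (IsPullback.of_hasPullback f V.1.ι) hF
      (AmpleLib.isInvertible_of_isRelAmple hL) (v t), Scheme.Hom.comp_apply]
  choose Z e he he' he'' huniv using hloc
  haveI := he
  obtain ⟨Y, i, hi, hpb, hu⟩ := FactorGlue.exists_glued (fun _ g => FlatHilb f F L Φ g)
    (fun _ _ a g => flatHilb_comp a g) (fun _ g h => flatHilb_local g h) Z e (fun V => inferInstance) huniv
  refine ⟨Y, i, FactorGlue.of_pieces Z e @IsImmersion i hpb he, FactorGlue.of_pieces Z e @QuasiCompact i hpb he',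
    FactorGlue.of_pieces Z e @LocallyOfFinitePresentation i hpb he'', ?_, hu⟩
  refine Set.Subset.antisymm ?_ fun s hs => ?_
  · rintro _ ⟨y, rfl⟩ k
    exact ((hu Y i).1 ⟨𝟙 _, Category.id_comp i⟩).2 y k
  · obtain ⟨g, hg⟩ := (hu _ (S.fromSpecResidueField s)).2
      ⟨isFlatOver_specField _ _, fun t k => by rw [Scheme.fromSpecResidueField_apply]; exact hs k⟩
    obtain ⟨z⟩ : Nonempty (Spec (S.residueField s)) := inferInstance
    exact ⟨g z, by rw [← Scheme.Hom.comp_apply, hg, Scheme.fromSpecResidueField_apply]⟩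

end Groth.Agent.FlatStrat
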