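import Groth.Agent.FlatStratLib.Proj
import Groth.Agent.HilbStratLib.Finite
import Groth.Agent.RpushLib.Finite
import Groth.Agent.GenBCLib.RankPoint
import Groth.Agent.GenFreeLocus.Functor
import Groth.Agent.S1455

/-!
# Uniform bound for base change to the fibres and vanishing on the fibres
-/

set_option autoImplicit false
set_option backward.isDefEq.respectTransparency false
set_option linter.style.haveILetI false
set_option linter.unusedSectionVars false

universe u

open CategoryTheory CategoryTheory.Limits AlgebraicGeometry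
open Groth.Agent.PullbackMod

noncomputable section

namespace Groth.Agent.FlatStrat

variable {X S X' T : Scheme.{u}} {f : X ⟶ S} {f' : X' ⟶ T} {g' : X' ⟶ X} {g : T ⟶ S}

/-- The degree zero base change map to the fibre. -/
abbrev bcFib (f : X ⟶ S) (M : X.Modules) (y : S) :=
  CohBC.bc0 f (S.fromSpecResidueField y) (f.fiberToSpecResidueField y) (f.fiberι y) (f.fiber_fac y) M

theorem isFlatOver_baseChange (h : IsPullback g' f' f g) {F : X.Modules} [Coh.IsQCoh F]
    (hfl : FlatMod.IsFlatOver f F) : FlatMod.IsFlatOver f' ((Scheme.Modules.pullback g').obj F) :=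
  fun x' => isFlatOverAt_baseChange h F x' (hfl (g' x'))

theorem subsingleton_fiberH_of_rank [IsProper f] [IsLocallyNoetherian S] {M : X.Modules} (hM : Coh.IsCoh M) {y : S}
    {i : ℕ} (h : CohIII.fiberRank f M i y = 0) : Subsingleton (CohIII.fiberH f M y i) := by
  haveI : IsProper (f.fiberToSpecResidueField y) :=
    inferInstanceAs (IsProper (pullback.snd f (S.fromSpecResidueField y)))
  haveI : IsLocallyNoetherian (f.fiber y) :=
    LocallyOfFiniteType.isLocallyNoetherian (f.fiberToSpecResidueField y)
  haveI : CompactSpace (f.fiber y) := QuasiCompact.compactSpace_of_compactSpace (f.fiberToSpecResidueField y)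
  haveI : IsNoetherian (f.fiber y) := ⟨⟩
  haveI : Module.Finite (S.residueField y) (CohIII.fiberH f M y i) :=
    ProperFin.allFin_of_isCoh (A := S.residueField y) (f.fiberToSpecResidueField y) _
      (PullbackMod.isCoh_pullback _ _ hM) i
  exact (Module.finrank_eq_zero_iff_of_free (S.residueField y) _).1 h

theorem fiberRank_eq_zero_of_subsingleton {M : X.Modules} {y : S} {i : ℕ}
    (h : Subsingleton (CohIII.fiberH f M y i)) : CohIII.fiberRank f M i y = 0 :=
  haveI := h
  Module.finrank_zero_of_subsingleton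

/-- Base change to the fibre upstairs and to the composite point. -/
theorem isIso_bc0_point (h : IsPullback g' f' f g) [IsProper f] (M : X.Modules) [Coh.IsQCoh M] (t : T)
    (h1 : IsIso (bcFib f M (g t))) :
    IsIso (CohBC.bc0 f (T.fromSpecResidueField t ≫ g) (f'.fiberToSpecResidueField t) (f'.fiberι t ≫ g')
      ((IsPullback.of_hasPullback f' (T.fromSpecResidueField t)).paste_horiz h).w M) := by
  haveI := h1
  have hc := isPullback_fiberToSpecResidueField_of_isPullback h t
  haveI : Coh.IsQCoh ((Scheme.Modules.pullback (f.fiberι (g t))).obj M) := isQCoh_pullback _ M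
  haveI : IsProper (f.fiberToSpecResidueField (g t)) :=
    inferInstanceAs (IsProper (pullback.snd f (S.fromSpecResidueField (g t))))
  haveI := isIso_bc0_flat hc ((Scheme.Modules.pullback (f.fiberι (g t))).obj M)
  have w := (hc.paste_horiz (IsPullback.of_hasPullback f (S.fromSpecResidueField (g t)))).w
  exact isIso_bc0_congr (g.SpecMap_residueFieldMap_fromSpecResidueField t)
    (pullback.lift_fst _ _ _) w _ M (isIso_bc0_comp (f.fiber_fac (g t)) hc.w w M)

/-- A base change map is an isomorphism on the fibre when the two maps to the fibres are. -/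
theorem isIso_map_bcFib (h : IsPullback g' f' f g) [IsProper f] (M : X.Modules) [Coh.IsQCoh M] (t : T)
    (h1 : IsIso (bcFib f M (g t))) (h2 : IsIso (bcFib f' ((Scheme.Modules.pullback g').obj M) t)) :
    IsIso ((Scheme.Modules.pullback (T.fromSpecResidueField t)).map (CohBC.bc0 f g f' g' h.w M)) := by
  haveI := h2
  haveI := isIso_bc0_point h M t h1
  exact isIso_map_bc0 h.w (f'.fiber_fac t)
    ((IsPullback.of_hasPullback f' (T.fromSpecResidueField t)).paste_horiz h).w M

/-- Base change to the fibre from a base change which does not extend the residue field. -/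
theorem isIso_bcFib_of_comp (h : IsPullback g' f' f g) [IsProper f] (M : X.Modules) [Coh.IsQCoh M] (t : T)
    [IsIso (g.residueFieldMap t)] (h1 : IsIso (CohBC.bc0 f g f' g' h.w M))
    (h2 : IsIso (bcFib f' ((Scheme.Modules.pullback g').obj M) t)) : IsIso (bcFib f M (g t)) := by
  haveI := h1
  haveI := h2
  haveI : IsProper f' := MorphismProperty.of_isPullback (P := @IsProper) h inferInstance
  have hc := isPullback_fiberToSpecResidueField_of_isPullback h t
  let m := pullback.map f' (T.fromSpecResidueField t) f (S.fromSpecResidueField (g t)) g'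
    (Spec.map (g.residueFieldMap t)) g h.w.symm (by simp)
  haveI : IsIso m := by
    rw [show m = hc.flip.isoPullback.hom ≫ pullback.snd _ _ from hc.flip.isoPullback_hom_snd.symm]
    infer_instance
  haveI : Coh.IsQCoh ((Scheme.Modules.pullback g').obj M) := isQCoh_pullback _ M
  haveI : Coh.IsQCoh ((Scheme.Modules.pullback (f'.fiberι t ≫ g')).obj M) := isQCoh_pullback _ M
  haveI : IsProper (f'.fiberToSpecResidueField t) :=
    inferInstanceAs (IsProper (pullback.snd f' (T.fromSpecResidueField t)))
  have w : (f'.fiberι t ≫ g') ≫ f = f'.fiberToSpecResidueField t ≫ T.fromSpecResidueField t ≫ g :=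
    ((IsPullback.of_hasPullback f' (T.fromSpecResidueField t)).paste_horiz h).w
  haveI hcomp : IsIso (CohBC.bc0 f (T.fromSpecResidueField t ≫ g) (f'.fiberToSpecResidueField t)
      (f'.fiberι t ≫ g') w M) := isIso_bc0_comp h.w (f'.fiber_fac t) w M
  have hi : IsPullback (inv m) (f.fiberToSpecResidueField (g t)) (f'.fiberToSpecResidueField t)
      (inv (Spec.map (g.residueFieldMap t))) := IsPullback.of_horiz_isIso ⟨by
    rw [IsIso.inv_comp_eq, ← Category.assoc]
    refine (IsIso.eq_comp_inv _).2 ?_
    exact hc.w.symm⟩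
  haveI := isIso_bc0_flat hi ((Scheme.Modules.pullback (f'.fiberι t ≫ g')).obj M)
  have hb : inv (Spec.map (g.residueFieldMap t)) ≫ T.fromSpecResidueField t ≫ g =
      S.fromSpecResidueField (g t) := by
    rw [IsIso.inv_comp_eq]
    exact (g.SpecMap_residueFieldMap_fromSpecResidueField t).symm
  have hb' : inv m ≫ f'.fiberι t ≫ g' = f.fiberι (g t) := by
    rw [IsIso.inv_comp_eq]
    exact (pullback.lift_fst _ _ _).symm
  have w2 : (inv m ≫ f'.fiberι t ≫ g') ≫ f =
      f.fiberToSpecResidueField (g t) ≫ inv (Spec.map (g.residueFieldMap t)) ≫ T.fromSpecResidueField t ≫ g := by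
    rw [hb, hb']; exact f.fiber_fac (g t)
  exact isIso_bc0_congr hb hb' w2 _ M (isIso_bc0_comp w hi.w w2 M)

theorem isIso_residueFieldMap_of_surjectiveOnStalks {A B : Scheme.{u}} (k : A ⟶ B) [SurjectiveOnStalks k] (a : A) :
    IsIso (k.residueFieldMap a) := by
  refine (ConcreteCategory.isIso_iff_bijective _).2 ⟨(k.residueFieldMap a).hom.injective, fun x => ?_⟩
  obtain ⟨y, rfl⟩ := A.residue_surjective a x
  obtain ⟨z, rfl⟩ := k.stalkMap_surjective a y
  exact ⟨B.residue (k a) z, congr($(Scheme.residue_residueFieldMap k a) z)⟩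

/-- For all twists from `m₀` on: base change to all fibres and no higher cohomology on the fibres. -/
def Unif (f : X ⟶ S) (L F : X.Modules) (m₀ : ℕ) : Prop :=
  ∀ m, m₀ ≤ m → ∀ y : S, IsIso (bcFib f (CohB1.tensorMod F (CohB1.tensorPow L m)) y) ∧
    ∀ i, 0 < i → Subsingleton (CohIII.fiberH f (CohB1.tensorMod F (CohB1.tensorPow L m)) y i)

theorem Unif.mono {L F : X.Modules} {m₀ m₁ : ℕ} (h : Unif f L F m₀) (hm : m₀ ≤ m₁) : Unif f L F m₁ :=
  fun m hm' => h m (hm.trans hm')

theorem eul_eq_fiberRank_zero {L F : X.Modules} {m₀ m : ℕ} (h : Unif f L F m₀) (hm : m₀ ≤ m) (y : S) :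
    HilbStratLib.eul f F L y m = (CohIII.fiberRank f (CohB1.tensorMod F (CohB1.tensorPow L m)) 0 y : ℤ) := by
  refine (finsum_eq_single _ 0 fun i hi => ?_).trans (by simp; rfl)
  have := fiberRank_eq_zero_of_subsingleton ((h m hm y).2 i (Nat.pos_of_ne_zero hi))
  show (-1 : ℤ) ^ i * (CohIII.fiberRank f _ i y : ℤ) = 0
  simp [this]

/-- A flat base change of a module without higher cohomology on the fibres. -/
theorem push_of_flat (h : IsPullback g' f' f g) [IsProper f] [LocallyOfFinitePresentation f] [IsLocallyNoetherian S]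
    [IsLocallyNoetherian T] {M : X.Modules} (hM : Coh.IsCoh M) (hb : ∀ y, IsIso (bcFib f M y))
    (hv : ∀ y, Subsingleton (CohIII.fiberH f M y 1))
    (hfl : FlatMod.IsFlatOver f' ((Scheme.Modules.pullback g').obj M)) :
    IsIso (CohBC.bc0 f g f' g' h.w M) ∧
      FlatMod.IsFinLocFree ((Scheme.Modules.pullback g).obj ((Coh.push f).obj M)) ∧
      ∀ t : T, FreeAt (CohIII.fiberRank f M 0 (g t)) ((Scheme.Modules.pullback g).obj ((Coh.push f).obj M)) t := by
  haveI : IsProper f' := MorphismProperty.of_isPullback (P := @IsProper) h inferInstance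
  haveI : LocallyOfFinitePresentation f' :=
    MorphismProperty.of_isPullback (P := @LocallyOfFinitePresentation) h inferInstance
  haveI : IsLocallyNoetherian X := LocallyOfFiniteType.isLocallyNoetherian f
  haveI : IsLocallyNoetherian X' := LocallyOfFiniteType.isLocallyNoetherian f'
  haveI := hM.1
  let G := (Scheme.Modules.pullback g').obj M
  have hG : Coh.IsCoh G := PullbackMod.isCoh_pullback g' M hM
  haveI := hG.1
  have hGfp := QCohLib.isFP_of_isCoh G hG
  have hv' : ∀ t : T, Subsingleton (CohIII.fiberH f' G t 1) := fun t => subsingleton_fiberH_of_rank hG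
    ((BCLib.fiberRank_baseChange h M 1 t).trans (fiberRank_eq_zero_of_subsingleton (hv _)))
  have hpt : ∀ t : T, GenBCLib.PtGood f' G (CohIII.fiberRank f' G 0 t) t := fun t => by
    obtain ⟨V, D, htV⟩ := GenBCLib.exists_dat_at hGfp hfl t
    obtain ⟨a, ha, -, hsp, -⟩ := D.exists_vanish htV (hv' t)
    exact ⟨⟨V, D, a, ha, hsp⟩, D.freeAt_of_good ha hsp⟩
  have hP : Coh.IsCoh ((Scheme.Modules.pushforward f').obj G) := RpushLib.isCoh_push f' hG
  haveI := hP.1
  have hflf : FlatMod.IsFinLocFree ((Scheme.Modules.pushforward f').obj G) :=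
    (isFinLocFree_iff_freeAt _ (QCohLib.isFP_of_isCoh _ hP)).2 fun t => ⟨_, (hpt t).2⟩
  have hS : Coh.IsCoh ((Scheme.Modules.pushforward f).obj M) := RpushLib.isCoh_push f hM
  have hu : Coh.IsCoh ((Scheme.Modules.pullback g).obj ((Scheme.Modules.pushforward f).obj M)) :=
    PullbackMod.isCoh_pullback g _ hS
  haveI := hu.1
  have hiso : IsIso (CohBC.bc0 f g f' g' h.w M) := isIso_of_fibres hu.2 hflf _ fun t =>
    isIso_map_bcFib h M t (hb _) (isIso_bc0_of_vanish (IsPullback.of_hasPullback f' (T.fromSpecResidueField t))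
      hGfp hfl hv')
  haveI := hiso
  refine ⟨hiso, DCohLib.isFinLocFree_iso (asIso (CohBC.bc0 f g f' g' h.w M)).symm hflf, fun t => ?_⟩
  rw [← BCLib.fiberRank_baseChange h M 0 t]
  exact GenFreeLocus.freeAt_of_iso (asIso (CohBC.bc0 f g f' g' h.w M)).symm (hpt t).2

variable {n : ℕ}

/-- The uniform bound on projective space over a Noetherian scheme. -/
theorem exists_unif [IsNoetherian S] {F : (CohB1.ProjSpaceOver n S).Modules} (hF : Coh.IsCoh F) :
    ∃ m₀, Unif (CohB1.ProjSpaceOver.toBase n S) (Twist.twistOver n S 1) F m₀ := by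
  haveI : IsProper (CohB1.ProjSpaceOver.toBase n S) := BCLib.isProper_toBase n S
  haveI := GenSeesawLib.lfp_toBase n S
  haveI : IsLocallyNoetherian (CohB1.ProjSpaceOver n S) :=
    LocallyOfFiniteType.isLocallyNoetherian (CohB1.ProjSpaceOver.toBase n S)
  haveI := hF.1
  let π := CohB1.ProjSpaceOver.toBase n S
  obtain ⟨t, I, -, htop, h0, -, hfl⟩ := S1455.result π F hF.1 (QCohLib.isFP_of_isCoh F hF)
  let Z := fun i : Fin t => (I i.castSucc).subschemeι ⁻¹ᵁ (I i.succ).support.compl
  let k := fun i : Fin t => (Z i).ι ≫ (I i.castSucc).subschemeι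
  have hL := GenSeesawLib.isInvertible_twistOver n S 1
  have hloc : ∀ i, ∃ N : ℕ, ∀ m, N ≤ m → ∀ z,
      IsIso (bcFib π (CohB1.tensorMod F (CohB1.tensorPow (Twist.twistOver n S 1) m)) (k i z)) ∧
      ∀ p, 0 < p → Subsingleton
        (CohIII.fiberH π (CohB1.tensorMod F (CohB1.tensorPow (Twist.twistOver n S 1) m)) (k i z) p) := by
    intro i
    haveI : IsImmersion (k i) := inferInstance
    haveI : IsLocallyNoetherian (Z i : Scheme.{u}) := LocallyOfFiniteType.isLocallyNoetherian (k i)
    haveI : CompactSpace (Z i : Scheme.{u}) := by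
      haveI : IsNoetherian (I i.castSucc).subscheme := by
        haveI := LocallyOfFiniteType.isLocallyNoetherian (I i.castSucc).subschemeι
        haveI := QuasiCompact.compactSpace_of_compactSpace (I i.castSucc).subschemeι
        exact ⟨⟩
      exact isCompact_iff_compactSpace.1 (TopologicalSpace.NoetherianSpace.isCompact _)
    haveI : IsNoetherian (Z i : Scheme.{u}) := ⟨⟩
    haveI : IsProper (CohB1.ProjSpaceOver.toBase n (Z i : Scheme.{u})) := BCLib.isProper_toBase n _
    haveI := GenSeesawLib.lfp_toBase n (Z i : Scheme.{u})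
    haveI : IsLocallyNoetherian (CohB1.ProjSpaceOver n (Z i : Scheme.{u})) :=
      LocallyOfFiniteType.isLocallyNoetherian (CohB1.ProjSpaceOver.toBase n (Z i : Scheme.{u}))
    let π' := CohB1.ProjSpaceOver.toBase n (Z i : Scheme.{u})
    let φ := FGA.projMap n (k i)
    have hsq := isPullback_projMap (n := n) (k i)
    let e := hsq.isoPullback
    have hflZ : FlatMod.IsFlatOver π' ((Scheme.Modules.pullback φ).obj F) := by
      haveI : Coh.IsQCoh ((Scheme.Modules.pullback (pullback.fst π (k i))).obj F) := isQCoh_pullback _ F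
      exact DCohMore.isFlatOver_of_iso _ ((Scheme.Modules.pullbackComp e.hom _).app F ≪≫
        (Scheme.Modules.pullbackCongr hsq.isoPullback_hom_fst).app F)
        (isFlatOver_baseChange (IsPullback.of_horiz_isIso ⟨by rw [Category.comp_id]; exact hsq.isoPullback_hom_snd⟩)
          (hfl i))
    obtain ⟨N₁, h₁⟩ := exists_isIso_bc0_proj (k i) hF
    have hFZ := PullbackMod.isCoh_pullback φ F hF
    have hLZ := AmpleLib.isInvertible_pullback φ hL
    obtain ⟨N₂, h₂⟩ := AmpleEmb.exists_isZero_rpush_tensorPow π' hLZ (ampleOn_pullTwist (k i)) hFZ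
    refine ⟨N₁ + N₂, fun m hm z => ?_⟩
    let M := CohB1.tensorMod F (CohB1.tensorPow (Twist.twistOver n S 1) m)
    have hM : Coh.IsCoh M := HilbLib.isCoh_twist hL hF m
    haveI := hM.1
    let G := CohB1.tensorMod ((Scheme.Modules.pullback φ).obj F)
      (CohB1.tensorPow ((Scheme.Modules.pullback φ).obj (Twist.twistOver n S 1)) m)
    have hG : Coh.IsCoh G := HilbLib.isCoh_twist hLZ hFZ m
    have hGfl := isFlatOver_twist hLZ hFZ hflZ m
    let eG : G ≅ (Scheme.Modules.pullback φ).obj M :=
      (AmpleLib.pullTensor φ _ _ ≪≫ AmpleLib.tIso (Iso.refl _) (AmpleLib.pullPow φ _ m)).symm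
    have hv := (S2390.result π' G hG hGfl fun p hp => h₂ m (by omega) p hp).1
    have hrk : ∀ (w : (Z i : Scheme.{u})) p, 0 < p →
        CohIII.fiberRank π' ((Scheme.Modules.pullback φ).obj M) p w = 0 := fun w p hp => by
      haveI := hG.1
      rw [← BCLib.fiberRank_congr π' eG p w]
      exact fiberRank_eq_zero_of_subsingleton (hv w p hp)
    have hφM : Coh.IsCoh ((Scheme.Modules.pullback φ).obj M) := PullbackMod.isCoh_pullback φ M hM
    haveI := hφM.1
    have hMfl : FlatMod.IsFlatOver π' ((Scheme.Modules.pullback φ).obj M) :=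
      DCohMore.isFlatOver_of_iso _ eG hGfl
    haveI : SurjectiveOnStalks (k i) := inferInstance
    haveI := isIso_residueFieldMap_of_surjectiveOnStalks (k i) z
    refine ⟨isIso_bcFib_of_comp hsq M z (h₁ m (by omega)) ?_, fun p hp =>
      subsingleton_fiberH_of_rank hM ((BCLib.fiberRank_baseChange hsq M p z).symm.trans (hrk z p hp))⟩
    exact isIso_bc0_of_vanish (IsPullback.of_hasPullback π' ((Z i : Scheme.{u}).fromSpecResidueField z))
      (QCohLib.isFP_of_isCoh _ hφM) hMfl fun w => subsingleton_fiberH_of_rank hφM (hrk w 1 one_pos)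
  choose N hN using hloc
  refine ⟨Finset.univ.sup N, fun m hm y => ?_⟩
  obtain ⟨i, hi, hi'⟩ := HilbStratLib.exists_step (fun i => ((I i).support : Set S)) y
    (by show y ∈ ((I 0).support : Set S); rw [h0]; trivial)
    (by show y ∉ ((I (Fin.last t)).support : Set S); simp [htop])
  obtain ⟨w, hw⟩ : y ∈ Set.range (I i.castSucc).subschemeι := by
    rw [Scheme.IdealSheafData.range_subschemeι]; exact hi
  subst hw
  exact hN i m ((Finset.le_sup (Finset.mem_univ i)).trans hm) ⟨w, hi'⟩

end Groth.Agent.FlatStrat
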